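import Groth.Agent.ZClos.K283.Aff
import Groth.Agent.Ega4C.ZTransformCodim
import Groth.Agent.Ega1.QCohOfLoc
import Groth.Agent.Ega1.QCohFinite
import Groth.Agent.S2666

/-!
# Sections of the Z-closure and the algebraic Z-transform; finiteness
-/

set_option autoImplicit false
universe u v w

open CategoryTheory TopologicalSpace Opposite CategoryTheory.Limits AlgebraicGeometry

namespace K283.Env

open K283.Sec K283.Basic K283.Top K283.Closed K283.Univ K283.Alg K283.Aff ZClos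
open K283.QC hiding germ_r
open Groth.Agent.CycB.StalkExact Groth.Agent.Fdesc.QCohStalk
open Groth.Agent.Ega4dB.DepthStalk Groth.Agent.Ega4C.ZTransform

section algebra

variable {A : Type u} [CommRing A] {Z : Set (PrimeSpectrum A)} {M : Type v} [AddCommGroup M] [Module A M]
  {N : Type w} [AddCommGroup N] [Module A N]

theorem isZEnv_of_AC (h : AC Z N) (φ : M →ₗ[A] N) (hker : LinearMap.ker φ ≤ tors Z M) : IsZEnv Z φ :=
  ⟨hker, h.tors_eq_bot, h.closed⟩

theorem PZ_iff_finite (h : AC Z N) (φ : M →ₗ[A] N) (hker : LinearMap.ker φ ≤ tors Z M)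
    (hD : DZ Z φ = ⊤) : PZ Z M ↔ Module.Finite A N := by
  rw [PZ_iff_of_env (isZEnv_of_AC h φ hker), hD]
  exact Module.Finite.equiv_iff Submodule.topEquiv

end algebra

variable {X : Scheme.{u}} {Z : Set X} {F F' : X.Modules}

/-- Linear map on sections. -/
noncomputable def mLin (φ : F ⟶ F') (V : X.Opens) : G F V →ₗ[Γ(X, V)] G F' V :=
  { toFun := m φ V
    map_add' := map_add _
    map_smul' := fun a s => m_smul φ a s }

theorem mLin_apply (φ : F ⟶ F') (V : X.Opens) (s : G F V) : mLin φ V s = m φ V s := rfl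

section

variable {V : X.Opens} (hV : IsAffineOpen V)

theorem ker_le_tors [IsLocallyNoetherian X] (hF : Coh.IsQCoh F) :
    LinearMap.ker (mLin (rhoApp Z F) V) ≤ tors (ZV hV Z) (G F V) := by
  intro n hn
  refine mem_tors_of_germ hV hF n fun x hx hxZ => ?_
  refine (isZClosedAt_of_notMem F x hxZ).1 ?_
  rw [rhoStalk_germ, map_zero]
  have : m (rhoApp Z F) V n = 0 := hn
  rw [this, map_zero]

theorem DZ_eq_top [IsLocallyNoetherian X] (hF : Coh.IsQCoh F) :
    DZ (ZV hV Z) (mLin (rhoApp Z F) V) = ⊤ := by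
  rw [eq_top_iff]
  intro t _ p hp
  have hx := fromSpec_mem hV p
  obtain ⟨a, ha⟩ := (isZClosedAt_of_notMem (Z := Z) F (hV.fromSpec p) hp).2
    (((H0 Z).obj F).presheaf.germ V _ hx t)
  obtain ⟨g, n, hg, hn⟩ := exists_germ_eq_smul F hV hF _ hx a
  have h1 : ((H0 Z).obj F).presheaf.germ V _ hx (m (rhoApp Z F) V n - g • t) = 0 := by
    rw [map_sub, germ_smul'', ← ha, ← rhoStalk_germ, hn, K283.DepthTwo.rhoStalk_eq,
      K283.DepthTwo.rhoStalk_eq, map_smul, sub_self]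
  obtain ⟨k, hk, hk'⟩ := exists_smul_eq_zero_of_germ_eq_zero _ hV (K283.LeftExact.isQCoh_H0 Z hF) _ hx _ h1
  rw [mem_basicOpen_iff hV _ hx, primeIdealOf_fromSpec] at hk hg
  refine ⟨k * g, fun h => (p.2.mem_or_mem h).elim hk hg, k • n, ?_⟩
  rw [mLin_apply, m_smul, mul_smul]
  rw [smul_sub, sub_eq_zero] at hk'
  exact hk'

theorem PZ_sections_iff [IsLocallyNoetherian X] (hZ : StableUnderSpecialization Z) (hF : Coh.IsQCoh F) :
    PZ (ZV hV Z) (G F V) ↔ Module.Finite Γ(X, V) (G ((H0 Z).obj F) V) :=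
  PZ_iff_finite (AC_of_isZClosed hV hZ (isZClosed_H0 F)) (mLin (rhoApp Z F) V) (ker_le_tors hV hF)
    (DZ_eq_top hV hF)

end

theorem isCoh_of_finite {M : X.Modules} (hM : Coh.IsQCoh M)
    (h : ∀ x : X, ∃ (V : X.Opens), x ∈ V ∧ IsAffineOpen V ∧ Module.Finite Γ(X, V) (G M V)) : Coh.IsCoh M := by
  refine ⟨hM, Groth.Agent.Ega1.QCohOfLoc.isFiniteType_of_finite M fun x => ?_⟩
  obtain ⟨V, hxV, hV, hfin⟩ := h x
  haveI := hM
  exact ⟨V, hxV, hV, Groth.Agent.Ega1.LocMod.loc_of_isQuasicoherent M hV, hfin⟩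

theorem isCoh_H0_iff [IsLocallyNoetherian X] (hZ : StableUnderSpecialization Z) (hF : Coh.IsQCoh F)
    (h : ∀ x : X, ∃ (V : X.Opens) (hV : IsAffineOpen V), x ∈ V ∧ PZ (ZV hV Z) (G F V)) :
    Coh.IsCoh ((H0 Z).obj F) := by
  refine isCoh_of_finite (K283.LeftExact.isQCoh_H0 Z hF) fun x => ?_
  obtain ⟨V, hV, hxV, h'⟩ := h x
  exact ⟨V, hxV, hV, (PZ_sections_iff hV hZ hF).1 h'⟩

/-- For `Z = T` closed the Z-closure is the direct image off `T`. -/
theorem nonempty_iso_closed (T : Closeds X) (F : X.Modules) :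
    Nonempty ((resPush T.compl).obj F ≅ (H0 (T : Set X)).obj F) := by
  let T' : Cl (T : Set X) := ⟨T, subset_rfl⟩
  have h1 : Limits.IsTerminal T' := Limits.IsTerminal.ofUniqueHom (fun S => homOfLE S.2) fun _ _ =>
    Subsingleton.elim _ _
  have h2 : IsIso (colimit.ι ((diagram (T : Set X)).obj F) T') := isIso_ι_of_isTerminal h1 _
  exact ⟨@asIso _ _ _ _ _ h2⟩

theorem isCoh_of_family [IsLocallyNoetherian X] (hZ : StableUnderSpecialization Z) (hF : Coh.IsCoh F)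
    (hX : ∀ (V : X.Opens) (hV : IsAffineOpen V) (x : X) (hxV : x ∈ V), x ∈ AssSch.Ass F →
        CAlg.IsUniversallyCatenary (Γ(X, V) ⧸ (hV.primeIdealOf ⟨x, hxV⟩).asIdeal) ∧
          CAlg.IsN1 (Γ(X, V) ⧸ (hV.primeIdealOf ⟨x, hxV⟩).asIdeal))
    (𝒯 : Set (ZClos.Cl Z)) (hcov : ∀ z ∈ Z, ∃ T ∈ 𝒯, z ∈ (T.1 : Set X))
    (hd : ∀ T ∈ 𝒯, Coh.IsCoh ((ZClos.resPush T.U).obj F)) :
    Coh.IsCoh ((ZClos.H0 Z).obj F) := by
  refine isCoh_H0_iff hZ hF.1 fun x₀ => ?_
  obtain ⟨V, hV, hx₀⟩ := exists_affine x₀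
  refine ⟨V, hV, hx₀, ?_⟩
  have hN : IsNoetherianRing Γ(X, V) := IsLocallyNoetherian.component_noetherian ⟨V, hV⟩
  have hfin : Module.Finite Γ(X, V) Γ(F, V) := Groth.Agent.Divis.StalkMod.finite_sections hF hV
  refine PZ_of_forall_two_le_height (stable_ZV hV hZ) fun p hp hpZ => ⟨?_, fun q hq => ?_⟩
  · obtain ⟨x, hx, rfl⟩ := Groth.Agent.Divis.WeakAss.exists_point hV p
    have hass : x ∈ AssSch.Ass F := (Groth.Agent.Fdesc.AssPoints.mem_Ass_iff F hV hF.1 x hx).2 hp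
    obtain ⟨h1, h2⟩ := hX V hV x hx hass
    exact Groth.Agent.S2666.result _ h1 h2
  · obtain ⟨T, hT, hyT⟩ := hcov _ hq
    have hTst : StableUnderSpecialization (T.1 : Set X) := T.1.2.stableUnderSpecialization
    obtain ⟨e⟩ := nonempty_iso_closed T.1 F
    have h1 : Coh.IsCoh ((H0 (T.1 : Set X)).obj F) := Groth.Agent.CohqB.LocalQC.isCoh_of_iso e (hd T hT)
    have h2 : PZ (ZV hV (T.1 : Set X)) (G F V) :=
      (PZ_sections_iff hV hTst hF.1).2 (Groth.Agent.Divis.StalkMod.finite_sections h1 hV)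
    exact two_le_height_of_PZ_module (stable_ZV hV hTst) h2 p hp (fun h => hpZ (T.2 h)) q hyT

end K283.Env
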