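import Groth.Prelude.Def_ZClos
import Groth.Agent.Dcoh.Restrict
import Groth.Agent.PerfB.ModExactCoprod
import Groth.Agent.Ega1.QcqsPush
import Groth.Agent.CohqB.LocalQC
import Groth.Agent.CohqB.QC7

/-!
# The Z-closure functor is left exact and preserves quasi-coherence
-/

set_option autoImplicit false
universe u

open CategoryTheory TopologicalSpace Opposite CategoryTheory.Limits AlgebraicGeometry

namespace K283.LeftExact

open ZClos

variable {X : Scheme.{u}}

theorem preservesFiniteLimits_resPush (U : X.Opens) : PreservesFiniteLimits (resPush U) := by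
  have h1 : PreservesFiniteLimits (Scheme.Modules.restrictFunctor U.ι) :=
    Groth.Agent.Dcoh.Restrict.preservesFiniteLimits_restrictFunctor U.ι
  have h2 : PreservesLimitsOfSize.{0, 0} (Scheme.Modules.pushforward U.ι) :=
    (Scheme.Modules.restrictAdjunction U.ι).rightAdjoint_preservesLimits
  have h3 : PreservesFiniteLimits (Scheme.Modules.pushforward U.ι) :=
    PreservesLimitsOfSize.preservesFiniteLimits _
  exact comp_preservesFiniteLimits _ _

theorem preservesFiniteLimits_diagram (Z : Set X) : PreservesFiniteLimits (diagram Z) where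
  preservesFiniteLimits J _ _ :=
    preservesLimitsOfShape_of_evaluation _ _ fun T =>
      (preservesFiniteLimits_resPush T.U).preservesFiniteLimits J

theorem preservesFiniteLimits_H0 (Z : Set X) : PreservesFiniteLimits (ZClos.H0 Z) := by
  have h1 := preservesFiniteLimits_diagram Z
  have : IsFiltered (Cl Z) := inferInstance
  have h2 : HasExactColimitsOfShape (Cl Z) X.Modules :=
    Groth.Agent.PerfB.ModExactCoprod.hasExactFilteredColimits_modules X (Cl Z)
  exact comp_preservesFiniteLimits (diagram Z) colim

/-- The inclusion of an open of a locally Noetherian scheme is quasi-compact. -/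
theorem isQCoh_resPush [IsLocallyNoetherian X] (U : X.Opens) {F : X.Modules} (hF : Coh.IsQCoh F) :
    Coh.IsQCoh ((resPush U).obj F) := by
  have h1 : Coh.IsQCoh (F.restrict U.ι) := Groth.Agent.CohqB.LocalQC.isQCoh_restrict U.ι hF
  have h2 : QuasiCompact U.ι := inferInstance
  have h3 : QuasiSeparated U.ι := inferInstance
  exact Groth.Agent.Ega1.QcqsPush.isQCoh_pushforward U.ι (F.restrict U.ι) h1

theorem isQCoh_H0 [IsLocallyNoetherian X] (Z : Set X) {F : X.Modules} (hF : Coh.IsQCoh F) :
    Coh.IsQCoh ((ZClos.H0 Z).obj F) :=
  Groth.Agent.CohqB.QC7.isQCoh_colimit ((diagram Z).obj F) fun T => isQCoh_resPush T.U hF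

end K283.LeftExact
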