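import Groth.Agent.ZClos.K283.Univ

/-!
# Maps between Z-closed modules bijective on stalks outside Z; localization of the notions
-/

set_option autoImplicit false
universe u

open CategoryTheory TopologicalSpace Opposite CategoryTheory.Limits AlgebraicGeometry

namespace K283.Support

open K283.Sec K283.Basic K283.Top K283.Closed K283.Univ ZClos

variable {X : Scheme.{u}} {Z : Set X} {F F' : X.Modules}

/-- The stalk map. -/
noncomputable def stalkMap (φ : F ⟶ F') (x : X) : F.presheaf.stalk x →+ F'.presheaf.stalk x :=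
  ((TopCat.Presheaf.stalkFunctor (C := Ab.{u}) x).map φ.mapPresheaf).hom

theorem stalkMap_germ (φ : F ⟶ F') {V : X.Opens} {x : X} (hx : x ∈ V) (s : G F V) :
    stalkMap φ x (F.presheaf.germ V x hx s) = F'.presheaf.germ V x hx (m φ V s) :=
  stalk_map_germ φ hx s

theorem stalkMap_comp {F'' : X.Modules} (φ : F ⟶ F') (ψ : F' ⟶ F'') (x : X) (a : F.presheaf.stalk x) :
    stalkMap (φ ≫ ψ) x a = stalkMap ψ x (stalkMap φ x a) := by
  obtain ⟨V, hx, s, rfl⟩ := F.presheaf.exists_germ_eq a
  rw [stalkMap_germ, stalkMap_germ, stalkMap_germ, m_comp]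

/-- Injectivity on stalks outside `Z` and purity of the source give injectivity. -/
theorem injective_of_stalk [IsLocallyNoetherian X] (hZ : StableUnderSpecialization Z)
    (hF : IsZPure Z F) (φ : F ⟶ F') (h : ∀ x : X, x ∉ Z → Function.Injective (stalkMap φ x)) (V : X.Opens) :
    Function.Injective (m φ V) := by
  refine injective_of_basis (fun V => IsCompact (V : Set X)) (fun V x hx => exists_isCompact hx) φ ?_ V
  intro V hV
  rw [injective_iff_map_eq_zero]
  intro s hs
  let W : X.Opens := ⨆ i : {W : X.Opens // ∃ h : W ≤ V, r F h s = 0}, i.1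
  have hW : ∀ x : X, x ∈ W ↔ ∃ (W' : X.Opens) (h : W' ≤ V), x ∈ W' ∧ r F h s = 0 := by
    intro x
    rw [Opens.mem_iSup]
    exact ⟨fun ⟨⟨W', h, e⟩, hx⟩ => ⟨W', h, hx, e⟩, fun ⟨W', h, hx, e⟩ => ⟨⟨W', h, e⟩, hx⟩⟩
  have hWV : W ≤ V := iSup_le fun i => i.2.1
  have h0 : r F hWV s = 0 := by
    refine sep _ _ fun x hx => ?_
    obtain ⟨W', h', hxW', e⟩ := (hW x).1 hx
    refine ⟨W', fun y hy => (hW y).2 ⟨W', h', hy, e⟩, hxW', ?_⟩
    rw [r_r, map_zero]
    exact e
  have h1 : (V : Set X) \ W ⊆ Z := by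
    rintro x ⟨hxV, hxW⟩
    by_contra hxZ
    refine hxW ((hW x).2 ?_)
    have h2 : F.presheaf.germ V x hxV s = F.presheaf.germ V x hxV 0 := by
      refine h x hxZ ?_
      rw [stalkMap_germ, stalkMap_germ, hs, map_zero (m φ V)]
    obtain ⟨W', h', -, hxW', e⟩ := exists_of_germ_eq F hxV s 0 h2
    exact ⟨W', h', hxW', by rw [e, map_zero]⟩
  obtain ⟨T, hT⟩ := exists_Cl hZ hV hWV h1
  refine isZPure_iff_injective.1 hF T V ?_
  rw [map_zero, ← r_r (F := F) hWV hT.le s, h0, map_zero]

theorem bijective_of_stalk [IsLocallyNoetherian X] (hZ : StableUnderSpecialization Z)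
    (hF : IsZClosed Z F) (hF' : IsZPure Z F') (φ : F ⟶ F')
    (h : ∀ x : X, x ∉ Z → Function.Bijective (stalkMap φ x)) (V : X.Opens) :
    Function.Bijective (m φ V) := by
  have hinj := injective_of_stalk hZ (IsZClosed.isZPure hF) φ fun x hx => (h x hx).1
  refine bijective_of_basis (fun V => IsCompact (V : Set X)) (fun V x hx => exists_isCompact hx) φ ?_ V
  intro V hV
  refine ⟨hinj V, fun t => ?_⟩
  let ι := {W : X.Opens // ∃ (h : W ≤ V) (s : G F W), m φ W s = r F' h t}
  let W : X.Opens := ⨆ i : ι, i.1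
  have hWV : W ≤ V := iSup_le fun i => i.2.1
  have h1 : (V : Set X) \ W ⊆ Z := by
    rintro x ⟨hxV, hxW⟩
    by_contra hxZ
    refine hxW ?_
    obtain ⟨a, ha⟩ := (h x hxZ).2 (F'.presheaf.germ V x hxV t)
    obtain ⟨W', hxW', s, -, hW'V, rfl⟩ := exists_germ F hxV a
    rw [stalkMap_germ, ← germ_r F' hW'V hxW'] at ha
    obtain ⟨W'', h'', -, hx'', e⟩ := exists_of_germ_eq F' hxW' _ _ ha
    refine Opens.mem_iSup.2 ⟨⟨W'', h''.trans hW'V, r F h'' s, ?_⟩, hx''⟩
    rw [m_r, e, r_r]
  choose s hs using fun i : ι => i.2.2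
  obtain ⟨w, hw⟩ := glue (F := F) (fun i : ι => i.1) rfl s fun i j => hinj _ <| by
    rw [m_r, m_r, hs, hs, r_r, r_r]
  obtain ⟨T, hT⟩ := exists_Cl hZ hV hWV h1
  obtain ⟨v, hv⟩ := (isZClosed_iff_bijective.1 hF T V).2 (r F hT.le w)
  refine ⟨v, isZPure_iff_injective.1 hF' T V ?_⟩
  rw [← m_r, hv, m_r, ← r_r (F := F') hWV hT.le t]
  congr 1
  refine sep _ _ fun x hx => ?_
  obtain ⟨i, hi⟩ := Opens.mem_iSup.1 hx
  refine ⟨i.1, le_iSup (fun i : ι => i.1) i, hi, ?_⟩
  rw [← m_r, hw i, hs, r_r]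

theorem isIso_of_stalk [IsLocallyNoetherian X] (hZ : StableUnderSpecialization Z)
    (hF : IsZClosed Z F) (hF' : IsZPure Z F') (φ : F ⟶ F')
    (h : ∀ x : X, x ∉ Z → Function.Bijective (stalkMap φ x)) : IsIso φ :=
  isIso_iff.2 (bijective_of_stalk hZ hF hF' φ h)

/-- The universal map is an isomorphism if the given map is bijective on stalks outside `Z`. -/
theorem isIso_fac [IsLocallyNoetherian X] (hZ : StableUnderSpecialization Z)
    (hF' : IsZClosed Z F') (u : F ⟶ F') (hu : ∀ x : X, x ∉ Z → Function.Bijective (stalkMap u x))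
    (v : (H0 Z).obj F ⟶ F') (hv : rhoApp Z F ≫ v = u) : IsIso v := by
  refine isIso_of_stalk hZ (isZClosed_H0 F) (IsZClosed.isZPure hF') v fun x hx => ?_
  have h1 := isZClosedAt_of_notMem F x hx
  have h2 := hu x hx
  have h3 : ⇑(stalkMap u x) = stalkMap v x ∘ stalkMap (rhoApp Z F) x := by
    funext a
    rw [← hv, stalkMap_comp]
    rfl
  rw [h3] at h2
  exact (Function.Bijective.of_comp_iff _ h1).1 h2

theorem isZero_H0_iff [IsLocallyNoetherian X] (hZ : StableUnderSpecialization Z) (F : X.Modules) :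
    IsZero ((H0 Z).obj F) ↔ ∀ x : X, x ∉ Z → Subsingleton (F.presheaf.stalk x) := by
  have hss : ∀ {F : X.Modules}, IsZero F → ∀ V, Subsingleton (G F V) := by
    intro F hF V
    refine ⟨fun s t => ?_⟩
    have h1 : 𝟙 F = 0 := hF.eq_of_src _ _
    have h2 : ∀ s : G F V, s = 0 := by
      intro s
      rw [← m_id s, h1]
      rfl
    rw [h2 s, h2 t]
  constructor
  · intro h x hx
    have h1 := isZClosedAt_of_notMem (Z := Z) F x hx
    have h2 : Subsingleton (((H0 Z).obj F).presheaf.stalk x) := by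
      refine ⟨fun a b => ?_⟩
      obtain ⟨V, hxV, s, -, -, rfl⟩ := exists_germ ((H0 Z).obj F) (V := ⊤) (x := x) trivial a
      obtain ⟨V', hxV', s', -, hV', rfl⟩ := exists_germ ((H0 Z).obj F) hxV b
      have := hss h V'
      rw [← germ_r _ hV' hxV' s]
      congr 1
      exact Subsingleton.elim _ _
    exact h1.1.subsingleton
  · intro h
    obtain ⟨O, h0⟩ : ∃ O : X.Modules, IsZero O := HasZeroObject.zero
    have h1 : IsZPure Z O := by
      rw [isZPure_iff_injective]
      intro T V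
      have := hss h0 V
      exact Function.injective_of_subsingleton _
    have h2 : IsIso (0 : (H0 Z).obj F ⟶ O) := by
      refine isIso_of_stalk hZ (isZClosed_H0 F) h1 _ fun x hx => ?_
      have h3 : Subsingleton (((H0 Z).obj F).presheaf.stalk x) := by
        have := h x hx
        exact (isZClosedAt_of_notMem (Z := Z) F x hx).2.subsingleton
      have h4 : Subsingleton (O.presheaf.stalk x) := by
        refine ⟨fun a b => ?_⟩
        obtain ⟨V, hxV, s, -, -, rfl⟩ := exists_germ O (V := ⊤) (x := x) trivial a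
        obtain ⟨V', hxV', s', -, hV', rfl⟩ := exists_germ O hxV b
        have := hss h0 V'
        rw [← germ_r _ hV' hxV' s]
        congr 1
        exact Subsingleton.elim _ _
      exact ⟨Function.injective_of_subsingleton _, fun b => ⟨0, Subsingleton.elim _ _⟩⟩
    exact h0.of_iso (asIso (0 : (H0 Z).obj F ⟶ O))

end K283.Support
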