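import Groth.Agent.ZClos.K283.QC
import Groth.Agent.ZClos.K283.Support
import Groth.Agent.ZClos.K283.LeftExact
import Groth.Agent.Ega4dB.DepthStalk
import Groth.Agent.Ega4C.DepthBasics
import Groth.Agent.Ega4B.DepthBasic
import Groth.Agent.Divis.PushDepth
import Groth.Agent.Divis.ExtendStalk
import Groth.Agent.Fdesc.AssPoints
import Groth.Agent.S2870

/-!
# Z-purity, Z-closedness and depth
-/

set_option autoImplicit false
universe u

open CategoryTheory TopologicalSpace Opposite CategoryTheory.Limits AlgebraicGeometry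

namespace K283.Depth

open K283.Sec K283.Basic K283.Top K283.Closed K283.Univ K283.Support ZClos
open K283.QC hiding germ_r
open Groth.Agent.CycB.StalkExact Groth.Agent.Fdesc.QCohStalk
open Groth.Agent.Ega4dB.DepthStalk

variable {X : Scheme.{u}} {F : X.Modules}

/-- If the unit `F ⟶ j_*(F|_U)` is bijective at a point outside `U` the depth is at least two. -/
theorem two_le_depth_of_bijective_unit [IsLocallyNoetherian X] (hF : Coh.IsCoh F) (U : X.Opens) (x : X)
    (hx : x ∉ U) (h : Function.Bijective (stalkLin ((resPushUnit U).app F) x)) :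
    2 ≤ LocCoh.depth (X.presheaf.stalk x) (F.presheaf.stalk x) := by
  have hN : IsNoetherianRing (X.presheaf.stalk x) := inferInstance
  have h0 : Module.Finite (X.presheaf.stalk x) (F.presheaf.stalk x) :=
    Groth.Agent.Divis.StalkMod.finite_stalk hF x
  let e : F.presheaf.stalk x ≃ₗ[X.presheaf.stalk x] ((resPush U).obj F).presheaf.stalk x :=
    LinearEquiv.ofBijective _ h
  have h1 : Module.Finite (X.presheaf.stalk x) (((resPush U).obj F).presheaf.stalk x) :=
    Module.Finite.equiv e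
  have h2 : Module.Finite (X.presheaf.stalk x)
      ((Groth.Agent.Divis.PushDepth.push U.ι (F.restrict U.ι)).presheaf.stalk x) := h1
  rw [Groth.Agent.Ega4B.DepthBasic.depth_congr e]
  refine Groth.Agent.Divis.PushDepth.depth_of_notMem U.ι (F.restrict U.ι) x ?_
  rintro ⟨y, rfl⟩
  exact hx y.2

/-- A coherent Z-closed module has depth at least two at the points of `Z`. -/
theorem two_le_depth_of_isZClosed [IsLocallyNoetherian X] {Z : Set X} (hZ : StableUnderSpecialization Z)
    (hF : Coh.IsCoh F) (hcl : IsZClosed Z F) (x : X) (hx : x ∈ Z) :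
    2 ≤ LocCoh.depth (X.presheaf.stalk x) (F.presheaf.stalk x) := by
  let T : Cl Z := ⟨⟨closure {x}, isClosed_closure⟩, fun y hy => hZ (specializes_iff_mem_closure.2 hy) hx⟩
  have h1 : IsIso ((resPushUnit T.U).app F) := isZClosed_iff_forall_isIso_unit.1 hcl T
  refine two_le_depth_of_bijective_unit hF T.U x (fun h => h (subset_closure rfl)) ?_
  exact (stalkLinEquiv (asIso ((resPushUnit T.U).app F)) x).bijective

theorem one_le_depth_iff_notMem [IsLocallyNoetherian X] (hF : Coh.IsCoh F) {V : X.Opens} (hV : IsAffineOpen V)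
    (x : X) (hx : x ∈ V) :
    (1 : ℕ∞) ≤ LocCoh.depth (X.presheaf.stalk x) (F.presheaf.stalk x) ↔
      (hV.primeIdealOf ⟨x, hx⟩).asIdeal ∉ associatedPrimes Γ(X, V) Γ(F, V) := by
  have hN : IsNoetherianRing Γ(X, V) := IsLocallyNoetherian.component_noetherian ⟨V, hV⟩
  have hfin : Module.Finite Γ(X, V) Γ(F, V) := Groth.Agent.Divis.StalkMod.finite_sections hF hV
  rw [depth_stalk_eq F hV hF.1 x hx]
  exact Groth.Agent.Ega4C.DepthBasics.one_le_depth_localizedModule_iff _

theorem one_le_depth_iff_notMem_Ass [IsLocallyNoetherian X] (hF : Coh.IsCoh F) (x : X) :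
    (1 : ℕ∞) ≤ LocCoh.depth (X.presheaf.stalk x) (F.presheaf.stalk x) ↔ x ∉ AssSch.Ass F := by
  obtain ⟨V, hV, hx⟩ := exists_affine x
  rw [one_le_depth_iff_notMem hF hV x hx, Groth.Agent.Fdesc.AssPoints.mem_Ass_iff F hV hF.1 x hx]

/-- Germs of sections which vanish on an open `W` vanish at `x` if the generizations of `x` outside `W` are
not associated. -/
theorem germ_eq_zero_of_notMem_Ass [IsLocallyNoetherian X] (hF : Coh.IsQCoh F) {V W : X.Opens}
    (hV : IsAffineOpen V) (hWV : W ≤ V) (x : X) (hx : x ∈ V)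
    (h : ∀ x' : X, x' ⤳ x → x' ∉ W → x' ∉ AssSch.Ass F) (s : G F V) (hs : r F hWV s = 0) :
    F.presheaf.germ V x hx s = 0 := by
  have hN : IsNoetherianRing Γ(X, V) := IsLocallyNoetherian.component_noetherian ⟨V, hV⟩
  by_contra hne
  let p := hV.primeIdealOf ⟨x, hx⟩
  let I : Ideal Γ(X, V) := (⊥ : Submodule Γ(X, V) Γ(F, V)).colon {s}
  have hI : I ≤ p.asIdeal := by
    intro g hg
    by_contra hgp
    refine hne (germ_eq_zero_of_smul hx (g := g) ((mem_basicOpen_iff hV x hx g).2 hgp) ?_)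
    simpa [I, Submodule.mem_colon_singleton] using hg
  obtain ⟨q, hq, hqp⟩ := Ideal.exists_minimalPrimes_le hI
  have hqprime : q.IsPrime := hq.1.1
  have hqass : q ∈ associatedPrimes Γ(X, V) Γ(F, V) := by
    obtain ⟨a, ha⟩ := Submodule.exists_eq_colon_of_mem_minimalPrimes (N := (⊥ : Submodule Γ(X, V) Γ(F, V)))
      (x := s) hq
    exact isAssociatedPrime_iff.2 ⟨hqprime, a, ha⟩
  let Q : PrimeSpectrum Γ(X, V) := ⟨q, hqprime⟩
  have hQV := fromSpec_mem hV Q
  have hQx : hV.fromSpec Q ⤳ x := by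
    rw [← le_iff_specializes hV x _ hx hQV, primeIdealOf_fromSpec]
    exact hqp
  refine h (hV.fromSpec Q) hQx ?_ ?_
  · intro hQW
    have h1 : F.presheaf.germ V _ hQV s = 0 := by
      rw [← germ_r F hWV hQW, hs, map_zero]
    obtain ⟨g, hg, hg'⟩ := exists_smul_eq_zero_of_germ_eq_zero F hV hF _ hQV s h1
    rw [mem_basicOpen_iff hV _ hQV, primeIdealOf_fromSpec] at hg
    refine hg (hq.1.2 ?_)
    simpa [I, Submodule.mem_colon_singleton] using hg'
  · rw [Groth.Agent.Fdesc.AssPoints.mem_Ass_iff F hV hF _ hQV, primeIdealOf_fromSpec]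
    exact hqass


/-- An associated point has a section near it whose germs vanish off its closure and are non-zero at all
specializations in the given affine neighbourhood. -/
theorem exists_section_of_mem_Ass [IsLocallyNoetherian X] (hF : Coh.IsQCoh F) {V : X.Opens}
    (hV : IsAffineOpen V) (x' : X) (hx' : x' ∈ V) (h : x' ∈ AssSch.Ass F) :
    ∃ s : G F V, (∀ (U : X.Opens), (∀ y ∈ U, ¬ x' ⤳ y) → r F (inf_le_left : V ⊓ U ≤ V) s = 0) ∧
      ∀ (x : X) (hx : x ∈ V), x' ⤳ x → F.presheaf.germ V x hx s ≠ 0 := by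
  have hN : IsNoetherianRing Γ(X, V) := IsLocallyNoetherian.component_noetherian ⟨V, hV⟩
  rw [Groth.Agent.Fdesc.AssPoints.mem_Ass_iff F hV hF x' hx', AssociatedPrimes.mem_iff,
    isAssociatedPrime_iff] at h
  obtain ⟨hp, s, hs⟩ := h
  have hs' : ∀ g : Γ(X, V), g ∈ (hV.primeIdealOf ⟨x', hx'⟩).asIdeal ↔ g • s = 0 := by
    intro g
    rw [hs, Submodule.mem_colon_singleton]
    simp
  refine ⟨s, fun U hU => ?_, fun x hx hxx' h0 => ?_⟩
  · refine sep _ _ fun y hy => ?_
    have hyV : y ∈ V := hy.1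
    have h1 : ¬ (hV.primeIdealOf ⟨x', hx'⟩).asIdeal ≤ (hV.primeIdealOf ⟨y, hyV⟩).asIdeal := by
      rw [le_iff_specializes hV y x' hyV hx']
      exact hU y hy.2
    obtain ⟨g, hg, hg'⟩ := SetLike.not_le_iff_exists.1 h1
    have hgy : y ∈ X.basicOpen g := (mem_basicOpen_iff hV y hyV g).2 hg'
    refine ⟨X.basicOpen g ⊓ (V ⊓ U), inf_le_right, ⟨hgy, hy⟩, ?_⟩
    rw [r_r, map_zero]
    have h2 : r F (inf_le_left.trans (X.basicOpen_le g) : X.basicOpen g ⊓ (V ⊓ U) ≤ V) s =
        r F inf_le_left (r F (X.basicOpen_le g) s) := (r_r _ _ _).symm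
    have h3 : r F (X.basicOpen_le g) s = 0 := by
      have h4 := congrArg (r F (X.basicOpen_le g)) ((hs' g).1 hg)
      rw [map_zero, r_smul] at h4
      exact (isUnit_resO le_rfl).smul_eq_zero.1 h4
    rw [h3, map_zero] at h2
    exact h2
  · obtain ⟨g, hg, hg'⟩ := exists_smul_eq_zero_of_germ_eq_zero F hV hF _ hx s h0
    rw [mem_basicOpen_iff hV x hx] at hg
    exact hg ((le_iff_specializes hV x x' hx hx').2 hxx' ((hs' g).2 hg'))

theorem isZPureAt_iff [IsLocallyNoetherian X] {Z : Set X} (hZ : StableUnderSpecialization Z)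
    (hF : Coh.IsQCoh F) (x : X) :
    IsZPureAt Z F x ↔ ∀ x' : X, x' ⤳ x → x' ∈ Z → x' ∉ AssSch.Ass F := by
  constructor
  · intro h x' hx'x hx'Z hass
    obtain ⟨V, hV, hx⟩ := exists_affine x
    have hx' : x' ∈ V := hx'x.mem_open V.2 hx
    obtain ⟨s, hs, hs'⟩ := exists_section_of_mem_Ass hF hV x' hx' hass
    let T : Cl Z := ⟨⟨closure {x'}, isClosed_closure⟩, fun y hy => hZ (specializes_iff_mem_closure.2 hy) hx'Z⟩
    have h0 : r F (inf_le_left : V ⊓ T.U ≤ V) s = 0 := hs T.U fun y hy hy' => hy hy'.mem_closure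
    refine hs' x hx hx'x (h ?_)
    rw [map_zero, rhoStalk_germ, ← toH_r_self F T, h0, map_zero, map_zero]
  · intro h a b hab
    change F.presheaf.stalk x at a
    change F.presheaf.stalk x at b
    suffices h : ∀ c : F.presheaf.stalk x, rhoStalk Z F x c = 0 → c = 0 by
      have := h (a - b) (by rw [map_sub, hab, sub_self])
      exact sub_eq_zero.1 this
    intro c hc
    obtain ⟨W, hxW, s, rfl⟩ := F.presheaf.exists_germ_eq c
    rw [rhoStalk_germ, ← map_zero (((H0 Z).obj F).presheaf.germ W x hxW).hom] at hc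
    obtain ⟨W', hWW', hW', hxW', e⟩ := exists_of_germ_eq _ hxW _ _ hc
    obtain ⟨V, hV, hxV, hVW'⟩ := exists_isAffineOpen_mem_and_subset hxW'
    have e' : m (rhoApp Z F) V (r F (le_trans hVW' hWW') s) = 0 := by
      rw [m_r]
      have := congrArg (r ((H0 Z).obj F) hVW') e
      rw [r_r, map_zero, map_zero] at this
      exact this
    rw [← toH_r_self F ⊥] at e'
    obtain ⟨T, hT, hT'⟩ := exists_r_eq_zero F hV.isCompact _ _ e'
    rw [r_r] at hT'
    rw [← germ_r F (le_trans hVW' hWW') hxV s]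
    refine germ_eq_zero_of_notMem_Ass hF hV (inf_le_left : V ⊓ T.U ≤ V) x hxV ?_ _ hT'
    intro x' hx' hx'T
    refine h x' hx' (T.2 ?_)
    by_contra hc
    exact hx'T ⟨hx'.mem_open V.2 hxV, hc⟩

theorem isZPureAt_iff_depth [IsLocallyNoetherian X] {Z : Set X} (hZ : StableUnderSpecialization Z)
    (hF : Coh.IsCoh F) (x : X) : IsZPureAt Z F x ↔
      ∀ x' : X, x' ⤳ x → x' ∈ Z → (1 : ℕ∞) ≤ LocCoh.depth (X.presheaf.stalk x') (F.presheaf.stalk x') := by
  rw [isZPureAt_iff hZ hF.1]
  exact forall_congr' fun x' => forall_congr' fun _ => forall_congr' fun _ =>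
    (one_le_depth_iff_notMem_Ass hF x').symm

end K283.Depth
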