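import Groth.Agent.ZClos.K283.Depth

/-!
# Z-closedness at a point and depth two
-/

set_option autoImplicit false
universe u

open CategoryTheory TopologicalSpace Opposite CategoryTheory.Limits AlgebraicGeometry

namespace K283.DepthTwo

open K283.Sec K283.Basic K283.Top K283.Closed K283.Univ K283.Support K283.Depth ZClos
open K283.QC hiding germ_r
open Groth.Agent.CycB.StalkExact Groth.Agent.Fdesc.QCohStalk
open Groth.Agent.Ega4dB.DepthStalk

variable {X : Scheme.{u}} {F : X.Modules}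

theorem rhoStalk_eq {Z : Set X} (F : X.Modules) (x : X) (a : F.presheaf.stalk x) :
    rhoStalk Z F x a = stalkLin (rhoApp Z F) x a := by
  obtain ⟨V, hx, s, rfl⟩ := F.presheaf.exists_germ_eq a
  rw [rhoStalk_germ, stalkLin_germ']

theorem isZClosedAt_iff_stalkLin {Z : Set X} (F : X.Modules) (x : X) :
    IsZClosedAt Z F x ↔ Function.Bijective (stalkLin (rhoApp Z F) x) := by
  have : ⇑(rhoStalk Z F x) = ⇑(stalkLin (rhoApp Z F) x) := funext fun a => rhoStalk_eq F x a
  rw [IsZClosedAt, this]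

/-- Coherent, depth at least two on `W ∖ U`, `W` affine: sections extend. -/
theorem bijective_of_depth [IsLocallyNoetherian X] (hF : Coh.IsCoh F) (U : X.Opens) {W : X.Opens}
    (hW : IsAffineOpen W)
    (h : ∀ x ∈ W, x ∉ U → 2 ≤ LocCoh.depth (X.presheaf.stalk x) (F.presheaf.stalk x)) :
    Function.Bijective (r F (inf_le_left : W ⊓ U ≤ W)) := by
  have hq : SheafOfModules.IsQuasicoherent (R := X.ringCatSheaf) F := hF.1
  refine (Groth.Agent.Divis.ExtendStalk.good_of_stalk hF U hW (fun x hxW hx => ?_)).bijective F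
    (Groth.Agent.CohqB.QC2.loc_of_isQuasicoherent F hW) hW
  have := Groth.Agent.Divis.StalkMod.finite_stalk hF x
  exact Groth.Agent.Divis.ExtendStalk.exists_regPair_of_two_le_depth (h x hxW hx)

/-- A coherent module, Z-closed at `x`, has depth at least two at `x` if `x ∈ Z`. -/
theorem two_le_depth_of_isZClosedAt [IsLocallyNoetherian X] {Z : Set X} (hZ : StableUnderSpecialization Z)
    (hF : Coh.IsCoh F) (x : X) (hx : x ∈ Z) (h : Function.Bijective (stalkLin (rhoApp Z F) x)) :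
    2 ≤ LocCoh.depth (X.presheaf.stalk x) (F.presheaf.stalk x) := by
  let T : Cl Z := ⟨⟨closure {x}, isClosed_closure⟩, fun y hy => hZ (specializes_iff_mem_closure.2 hy) hx⟩
  obtain ⟨V, hxV, hV⟩ := exists_injective_near hF (K283.LeftExact.isQCoh_H0 Z hF.1) (rhoApp Z F) x h.1
  refine two_le_depth_of_bijective_unit hF T.U x (fun h => h (subset_closure rfl)) ⟨?_, ?_⟩
  · have h1 : stalkLin (inj F T) x ∘ₗ stalkLin ((resPushUnit T.U).app F) x = stalkLin (rhoApp Z F) x := by
      rw [← unit_inj F T, ← stalkLin_comp]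
    refine Function.Injective.of_comp (f := stalkLin (inj F T) x) ?_
    rw [← LinearMap.coe_comp, h1]
    exact h.1
  · intro b
    obtain ⟨W, hxW, t', -, hWV, rfl⟩ := exists_germ ((resPush T.U).obj F) hxV b
    obtain ⟨t, rfl⟩ := (toPush_bijective F T.U W).2 t'
    obtain ⟨a, ha⟩ := h.2 (((H0 Z).obj F).presheaf.germ W x hxW (toH F T W t))
    obtain ⟨W', hxW', s, -, hW'W, rfl⟩ := exists_germ F hxW a
    rw [stalkLin_germ', ← germ_r _ hW'W hxW'] at ha
    obtain ⟨W'', hW'', -, hxW'', e⟩ := exists_of_germ_eq _ hxW' _ _ ha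
    refine ⟨F.presheaf.germ W' x hxW' s, ?_⟩
    refine (stalkLin_germ' ((resPushUnit T.U).app F) hxW' s).trans ?_
    rw [← germ_r _ hW'' hxW'', ← germ_r _ (hW''.trans hW'W) hxW'']
    congr 1
    rw [unit_eq, r_toPush, r_toPush]
    congr 1
    refine hV (W'' ⊓ T.U) ((inf_le_left.trans (hW''.trans hW'W)).trans hWV) ?_
    rw [r_r, m_r, ← r_r (F := (H0 Z).obj F) hW''
      (inf_le_left : W'' ⊓ T.U ≤ W'') (m (rhoApp Z F) W' s), e, r_r, r_r]
    exact (r_toH_of_le F T (inf_le_inf_right _ (hW''.trans hW'W)) t)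

theorem isZClosedAt_iff_depth [IsLocallyNoetherian X] {Z : Set X} (hZ : StableUnderSpecialization Z)
    (hF : Coh.IsCoh F) (x : X) : IsZClosedAt Z F x ↔
      ∀ x' : X, x' ⤳ x → x' ∈ Z → (2 : ℕ∞) ≤ LocCoh.depth (X.presheaf.stalk x') (F.presheaf.stalk x') := by
  constructor
  · intro h x' hx' hx'Z
    rw [isZClosedAt_iff_stalkLin] at h
    exact two_le_depth_of_isZClosedAt hZ hF x' hx'Z
      (bijective_of_specializes hF.1 (K283.LeftExact.isQCoh_H0 Z hF.1) _ hx' h)
  · intro h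
    refine ⟨(isZPureAt_iff_depth hZ hF x).2 fun x' hx' hx'Z => le_trans ?_ (h x' hx' hx'Z), ?_⟩
    · exact one_le_two
    intro c
    obtain ⟨W, hxW, t, hW, -, rfl⟩ := exists_germ ((H0 Z).obj F) (V := ⊤) (x := x) trivial c
    obtain ⟨T, s, rfl⟩ := exists_toH_eq F hW t
    obtain ⟨V, hxV, hV⟩ := Groth.Agent.S2870.exists_nhd X F hF (T.1 : Set X) T.1.2 2 x
      (le_iInf fun z => h z.1 z.2.2 (T.2 z.2.1))
    obtain ⟨V', hV', hxV', hV'W⟩ := exists_isAffineOpen_mem_and_subset (x := x) (U := V ⊓ W) ⟨hxV, hxW⟩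
    have hV'V : V' ≤ V := le_trans hV'W inf_le_left
    have hV'W' : V' ≤ W := le_trans hV'W inf_le_right
    obtain ⟨s', hs'⟩ := (bijective_of_depth hF T.U hV' fun z hz hzT =>
      hV z (hV'V hz) (by by_contra h; exact hzT h)).2 (r F (inf_le_inf_right _ hV'W') s)
    refine ⟨F.presheaf.germ V' x hxV' s', ?_⟩
    rw [rhoStalk_germ, ← toH_r_self F T, hs', ← r_toH F T hV'W' s, germ_r _ hV'W' hxV']

end K283.DepthTwo
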