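import Groth.Agent.ZClos.K283.Locus
import Mathlib.RingTheory.KrullDimension.Module

/-!
# The condition (S₂) and the Z-closure for `Z = Z^(2)`
-/

set_option autoImplicit false
universe u

open CategoryTheory TopologicalSpace Opposite CategoryTheory.Limits AlgebraicGeometry

namespace K283.S2

open K283.Sec K283.Basic K283.Top K283.Closed K283.Univ K283.Support K283.Depth K283.DepthTwo
open K283.Cover ZClos K283.Locus
open K283.QC hiding germ_r
open Groth.Agent.CycB.StalkExact Groth.Agent.Fdesc.QCohStalk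
open Groth.Agent.Ega4dB.DepthStalk
open Groth.Agent.Ega1.QCohLoc (resO)

variable {X : Scheme.{u}} {F : X.Modules}

theorem ringKrullDim_le_of_specializes {x y : X} (h : x ⤳ y) :
    ringKrullDim (X.presheaf.stalk x) ≤ ringKrullDim (X.presheaf.stalk y) := by
  rw [ringKrullDim_stalk_eq_coheight, ringKrullDim_stalk_eq_coheight]
  exact WithBot.coe_le_coe.2 (Order.coheight_anti (show y ≤ x from h))

theorem stable_dimGe (n : ℕ) : StableUnderSpecialization (dimGe X n) := fun _ _ h hx =>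
  le_trans hx (ringKrullDim_le_of_specializes h)

/-- Every prime of the local ring at `x` comes from a generization of `x`. -/
theorem exists_eq_comap (x : X) (Q : PrimeSpectrum (X.presheaf.stalk x)) :
    ∃ (y : X) (h : y ⤳ x), Q.asIdeal =
      (IsLocalRing.maximalIdeal (X.presheaf.stalk y)).comap (X.presheaf.stalkSpecializes h).hom := by
  obtain ⟨U, hU, hx⟩ := exists_affine x
  obtain ⟨y, hy, h, e⟩ := K471.StalkPrimes.exists_point_of_prime hU hx Q
  refine ⟨y, h, ?_⟩
  let Q' : PrimeSpectrum (X.presheaf.stalk x) :=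
    PrimeSpectrum.comap (X.presheaf.stalkSpecializes h).hom (IsLocalRing.closedPoint (X.presheaf.stalk y))
  have hQ : K471.StalkPrimes.below hx Q' = hU.primeIdealOf ⟨y, hy⟩ := by
    rw [← K471.StalkPrimes.below_closedPoint hU hy]
    change PrimeSpectrum.comap _ (PrimeSpectrum.comap _ _) = PrimeSpectrum.comap _ _
    rw [← PrimeSpectrum.comap_comp_apply, ← CommRingCat.hom_comp, TopCat.Presheaf.germ_stalkSpecializes]
  have := K471.StalkPrimes.below_injective hU hx (e.trans hQ.symm)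
  rw [this]
  rfl

theorem support_stalk (hF : Coh.IsQCoh F) (hsupp : ∀ x : X, Nontrivial (F.presheaf.stalk x)) (x : X) :
    Module.support (X.presheaf.stalk x) (F.presheaf.stalk x) = Set.univ := by
  rw [Set.eq_univ_iff_forall]
  intro Q
  obtain ⟨y, h, hQ⟩ := exists_eq_comap x Q
  obtain ⟨U, hU, hx⟩ := exists_affine x
  have hy : y ∈ U := h.mem_open U.2 hx
  have := hsupp y
  obtain ⟨b, hb⟩ := exists_ne (0 : F.presheaf.stalk y)
  obtain ⟨g, s, hg, hs⟩ := exists_germ_eq_smul F hU hF y hy b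
  have hs0 : F.presheaf.germ U y hy s ≠ 0 := by
    rw [hs]
    intro h0
    exact hb ((isUnit_germ hy hg).smul_eq_zero.1 h0)
  rw [Module.mem_support_iff']
  refine ⟨F.presheaf.germ U x hx s, fun a ha h0 => ?_⟩
  obtain ⟨W, hxW, f, rfl⟩ := X.presheaf.exists_germ_eq a
  have hx' : x ∈ W ⊓ U := ⟨hxW, hx⟩
  have hy' : y ∈ W ⊓ U := h.mem_open (W ⊓ U).2 hx'
  have h1 : F.presheaf.germ (W ⊓ U) x hx'
      (resO (inf_le_left : W ⊓ U ≤ W) f • r F (inf_le_right : W ⊓ U ≤ U) s) = 0 := by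
    rw [germ_smul'', Univ.germ_r, Groth.Agent.Divis.PushDepth.germ_resO]
    exact h0
  have h2 := germ_eq_zero_of_specializes h hx' hy' h1
  rw [germ_smul'', Univ.germ_r, Groth.Agent.Divis.PushDepth.germ_resO] at h2
  have h3 : IsUnit (X.presheaf.germ W y hy'.1 f) := by
    by_contra h4
    apply ha
    rw [hQ, Ideal.mem_comap]
    have h5 : (X.presheaf.stalkSpecializes h).hom (X.presheaf.germ W x hxW f) =
        X.presheaf.germ W y hy'.1 f := by
      exact X.presheaf.germ_stalkSpecializes_apply hxW h f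
    rw [h5]
    exact h4
  exact hs0 (h3.smul_eq_zero.1 h2)

theorem supportDim_stalk (hF : Coh.IsQCoh F) (hsupp : ∀ x : X, Nontrivial (F.presheaf.stalk x)) (x : X) :
    Module.supportDim (X.presheaf.stalk x) (F.presheaf.stalk x) = ringKrullDim (X.presheaf.stalk x) := by
  rw [Module.supportDim, support_stalk hF hsupp x, ringKrullDim]
  exact Order.krullDim_eq_of_orderIso (OrderIso.Set.univ)

theorem le_one_of_notMem {x : X} (hx : x ∉ dimGe X 2) :
    ringKrullDim (X.presheaf.stalk x) = 0 ∨ ringKrullDim (X.presheaf.stalk x) = 1 := by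
  have h1 : ¬ ((2 : ℕ) : WithBot ℕ∞) ≤ ringKrullDim (X.presheaf.stalk x) := hx
  rw [ringKrullDim_stalk_eq_coheight] at h1 ⊢
  have h2 : ¬ (2 : ℕ∞) ≤ Order.coheight x := fun h => h1 (WithBot.coe_le_coe.2 h)
  have h3 : Order.coheight x < 2 := not_le.1 h2
  have h4 : Order.coheight x ≤ 1 := ENat.lt_add_one_iff (by simp) |>.1 (by
    rw [one_add_one_eq_two]; exact h3)
  rcases h4.lt_or_eq with h5 | h5
  · left
    rw [Order.lt_one_iff] at h5
    rw [h5]; rfl
  · right
    rw [h5]; rfl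

/-- Outside `Z^(2)`, the condition (S₂) at `x` follows from the condition on associated points. -/
theorem min_le_of_notMem [IsLocallyNoetherian X] (hF : Coh.IsCoh F)
    (hass : ∀ x ∈ AssSch.Ass F, ringKrullDim (X.presheaf.stalk x) ≠ 1) (x : X) (hx : x ∉ dimGe X 2) :
    min (2 : WithBot ℕ∞) (Module.supportDim (X.presheaf.stalk x) (F.presheaf.stalk x)) ≤
      ((LocCoh.depth (X.presheaf.stalk x) (F.presheaf.stalk x) : ℕ∞) : WithBot ℕ∞) := by
  refine (min_le_right _ _).trans ?_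
  rcases le_one_of_notMem hx with h | h
  · refine (Module.supportDim_le_ringKrullDim _ _).trans ?_
    rw [h]
    exact WithBot.coe_le_coe.2 zero_le
  · refine (Module.supportDim_le_ringKrullDim _ _).trans ?_
    have h1 := (one_le_depth_iff_notMem_Ass hF x).2 fun h2 => hass x h2 h
    rw [h]
    exact WithBot.coe_le_coe.2 h1

theorem stalkEquiv [IsLocallyNoetherian X] {Z : Set X} (F : X.Modules) (x : X) (hx : x ∉ Z) :
    Nonempty (F.presheaf.stalk x ≃ₗ[X.presheaf.stalk x] ((H0 Z).obj F).presheaf.stalk x) :=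
  ⟨LinearEquiv.ofBijective _ ((isZClosedAt_iff_stalkLin F x).1 (isZClosedAt_of_notMem F x hx))⟩

theorem hasS2 [IsLocallyNoetherian X] (hF : Coh.IsCoh F)
    (hass : ∀ x ∈ AssSch.Ass F, ringKrullDim (X.presheaf.stalk x) ≠ 1)
    (hH : Coh.IsCoh ((ZClos.H0 (ZClos.dimGe X 2)).obj F)) (x : X) :
    min (2 : WithBot ℕ∞) (Module.supportDim (X.presheaf.stalk x) (((ZClos.H0 (ZClos.dimGe X 2)).obj F).presheaf.stalk x)) ≤
      ((LocCoh.depth (X.presheaf.stalk x) (((ZClos.H0 (ZClos.dimGe X 2)).obj F).presheaf.stalk x) : ℕ∞) : WithBot ℕ∞) := by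
  by_cases hx : x ∈ dimGe X 2
  · refine (min_le_left _ _).trans ?_
    exact WithBot.coe_le_coe.2 (two_le_depth_of_isZClosed (stable_dimGe 2) hH (isZClosed_H0 F) x hx)
  · obtain ⟨e⟩ := stalkEquiv F x hx
    rw [← Groth.Agent.Ega4B.DepthBasic.depth_congr e, ← Module.supportDim_eq_of_equiv e]
    exact min_le_of_notMem hF hass x hx

theorem locus_eq [IsLocallyNoetherian X] (hF : Coh.IsCoh F)
    (hsupp : ∀ x : X, Nontrivial (F.presheaf.stalk x))
    (hass : ∀ x ∈ AssSch.Ass F, ringKrullDim (X.presheaf.stalk x) ≠ 1) (x : X) :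
    (min (2 : WithBot ℕ∞) (Module.supportDim (X.presheaf.stalk x) (F.presheaf.stalk x)) ≤
          ((LocCoh.depth (X.presheaf.stalk x) (F.presheaf.stalk x) : ℕ∞) : WithBot ℕ∞)) ↔
      (x ∈ dimGe X 2 → (2 : ℕ∞) ≤ LocCoh.depth (X.presheaf.stalk x) (F.presheaf.stalk x)) := by
  constructor
  · intro h hx
    rw [supportDim_stalk hF.1 hsupp x, min_eq_left (show (2 : WithBot ℕ∞) ≤ _ from hx)] at h
    exact WithBot.coe_le_coe.1 h
  · intro h
    by_cases hx : x ∈ dimGe X 2
    · refine (min_le_left _ _).trans ?_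
      exact WithBot.coe_le_coe.2 (h hx)
    · exact min_le_of_notMem hF hass x hx

theorem isOpen_S2 [IsLocallyNoetherian X] (F : X.Modules) (hF : Coh.IsCoh F)
    (hsupp : ∀ x : X, Nontrivial (F.presheaf.stalk x))
    (hass : ∀ x ∈ AssSch.Ass F, ringKrullDim (X.presheaf.stalk x) ≠ 1)
    (hH : Coh.IsCoh ((ZClos.H0 (ZClos.dimGe X 2)).obj F)) :
    IsOpen {x : X | ∀ x' : X, x' ⤳ x →
        min (2 : WithBot ℕ∞) (Module.supportDim (X.presheaf.stalk x') (F.presheaf.stalk x')) ≤
          ((LocCoh.depth (X.presheaf.stalk x') (F.presheaf.stalk x') : ℕ∞) : WithBot ℕ∞)} ∧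
      ∀ x : X, (¬ ∀ x' : X, x' ⤳ x →
        min (2 : WithBot ℕ∞) (Module.supportDim (X.presheaf.stalk x') (F.presheaf.stalk x')) ≤
          ((LocCoh.depth (X.presheaf.stalk x') (F.presheaf.stalk x') : ℕ∞) : WithBot ℕ∞)) →
        (2 : WithBot ℕ∞) ≤ ringKrullDim (X.presheaf.stalk x) := by
  obtain ⟨U, hU, hUc, -, -⟩ := locus (stable_dimGe (X := X) 2) hF hH
  have h1 : ∀ x : X, x ∈ U ↔ ∀ x' : X, x' ⤳ x →
        min (2 : WithBot ℕ∞) (Module.supportDim (X.presheaf.stalk x') (F.presheaf.stalk x')) ≤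
          ((LocCoh.depth (X.presheaf.stalk x') (F.presheaf.stalk x') : ℕ∞) : WithBot ℕ∞) := by
    intro x
    change x ∈ (U : Set X) ↔ _
    rw [hU]
    exact forall_congr' fun x' => forall_congr' fun _ => (locus_eq hF hsupp hass x').symm
  refine ⟨?_, fun x hx => ?_⟩
  · convert U.2 using 1
    ext x
    exact (h1 x).symm
  · rw [← h1] at hx
    exact hUc hx

end K283.S2
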