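import Groth.Agent.ZClos.K283.Aff
import Groth.Agent.Fdesc.PullbackSec
import Groth.Agent.Fdesc.FTDescent
import Groth.Agent.FormalA.PullbackQC
import Groth.Agent.PerfC.FlatExact

/-!
# Flat pullback of Z-closed modules and of the Z-closure
-/

set_option autoImplicit false
universe u

open CategoryTheory TopologicalSpace Opposite CategoryTheory.Limits AlgebraicGeometry

namespace K283.Pull

open K283.Sec K283.Basic K283.Top K283.Closed K283.Univ K283.Alg K283.Aff ZClos
open K283.QC hiding germ_r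
open Groth.Agent.CycB.StalkExact Groth.Agent.Fdesc.QCohStalk
open Groth.Agent.Ega4dB.DepthStalk Groth.Agent.Ega4C.ZTransform
open Groth.Agent.Fdesc.PullbackSec

variable {X X' : Scheme.{u}} (f : X' ⟶ X)

theorem preZ_ZV {Z : Set X} {V : X.Opens} {V' : X'.Opens} (hV : IsAffineOpen V) (hV' : IsAffineOpen V')
    (e : V' ≤ f ⁻¹ᵁ V) :
    letI := secAlg f e
    preZ Γ(X', V') (ZV hV Z) = ZV hV' (f.base ⁻¹' Z) := by
  letI := secAlg f e
  ext p
  change hV.fromSpec (Spec.map (f.appLE V V' e) p) ∈ Z ↔ f (hV'.fromSpec p) ∈ Z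
  have h1 : hV.fromSpec (Spec.map (f.appLE V V' e) p) = f (hV'.fromSpec p) :=
    congr($(IsAffineOpen.SpecMap_appLE_fromSpec f hV hV' e) p)
  rw [h1]

theorem isZClosed_pullback [IsLocallyNoetherian X] [IsLocallyNoetherian X'] [Flat f]
    {Z : Set X} (hZ : StableUnderSpecialization Z) (M : X.Modules) (hM : Coh.IsQCoh M) (h : IsZClosed Z M) :
    IsZClosed (f.base ⁻¹' Z) ((Scheme.Modules.pullback f).obj M) := by
  have hM' : Coh.IsQCoh ((Scheme.Modules.pullback f).obj M) :=
    Groth.Agent.FormalA.PullbackQC.isQCoh_pullback f M hM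
  refine isZClosed_of_AC hM' (fun V' => ∃ V : X.Opens, IsAffineOpen V ∧ IsAffineOpen V' ∧ V' ≤ f ⁻¹ᵁ V) ?_ ?_
  · intro W' x hx
    obtain ⟨V, hV, hxV⟩ := exists_affine (f x)
    obtain ⟨V', hV', hxV', hV'W⟩ := exists_isAffineOpen_mem_and_subset (x := x) (U := W' ⊓ f ⁻¹ᵁ V) ⟨hx, hxV⟩
    exact ⟨V', ⟨V, hV, hV', le_trans hV'W inf_le_right⟩, le_trans hV'W inf_le_left, hxV'⟩
  · rintro V' ⟨V, hV, hV', e⟩
    refine ⟨hV', ?_⟩
    letI := secAlg f e
    letI := secModule f e ((Scheme.Modules.pullback f).obj M)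
    haveI := isScalarTower_sec f e ((Scheme.Modules.pullback f).obj M)
    have hbc := isBaseChange_pullSec f e hV hV' M hM hM'
    have hN : IsNoetherianRing Γ(X, V) := IsLocallyNoetherian.component_noetherian ⟨V, hV⟩
    have hfl : (f.appLE V V' e).hom.Flat :=
      HasRingHomProperty.appLE (P := @Flat) f ‹_› ⟨V, hV⟩ ⟨V', hV'⟩ e
    haveI : Module.Flat Γ(X, V) Γ(X', V') := hfl
    have h1 := AC_of_isZClosed hV hZ h
    have h2 := AC.baseChange Γ(X', V') (stable_ZV hV hZ) h1
    rw [preZ_ZV f hV hV' e] at h2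
    exact h2.congr hbc.equiv


open Groth.Agent.Fdesc.PullbackStalk Groth.Agent.PerfC.FlatExact in
theorem bijective_pullback_map {M N : X.Modules} (φ : M ⟶ N) (x : X')
    (h : Function.Bijective (stalkLin φ (f x))) :
    Function.Bijective (stalkLin ((Scheme.Modules.pullback f).map φ) x) := by
  letI := stalkAlg f x
  let e := LinearEquiv.ofBijective (stalkLin φ (f x)) h
  have h1 : ∀ t, (e.lTensor (X'.presheaf.stalk x)) t =
      (stalkLin φ (f x)).lTensor (X'.presheaf.stalk x) t := fun t => rfl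
  have h2 : ⇑(stalkLin ((Scheme.Modules.pullback f).map φ) x) ∘ ⇑(stalkPullbackEquiv f M x) =
      ⇑(stalkPullbackEquiv f N x) ∘ ⇑(e.lTensor (X'.presheaf.stalk x)) := by
    funext t
    exact (stalkLin_pullback f φ x t).trans (by rw [← h1]; rfl)
  have h3 : Function.Bijective (⇑(stalkLin ((Scheme.Modules.pullback f).map φ) x) ∘
      ⇑(stalkPullbackEquiv f M x)) := by
    rw [h2]
    exact (stalkPullbackEquiv f N x).bijective.comp (e.lTensor (X'.presheaf.stalk x)).bijective
  exact (Function.Bijective.of_comp_iff _ (stalkPullbackEquiv f M x).bijective).1 h3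

theorem stalkMap_eq_stalkLin {M N : X.Modules} (φ : M ⟶ N) (x : X) :
    ⇑(K283.Support.stalkMap φ x) = ⇑(stalkLin φ x) := by
  funext a
  obtain ⟨V, hx, s, rfl⟩ := M.presheaf.exists_germ_eq a
  rw [K283.Support.stalkMap_germ, stalkLin_germ']

/-- The Z-closure commutes with flat pullback. -/
theorem nonempty_iso [IsLocallyNoetherian X] [IsLocallyNoetherian X'] [Flat f]
    {Z : Set X} (hZ : StableUnderSpecialization Z) (F : X.Modules) (hF : Coh.IsQCoh F) :
    Nonempty ((Scheme.Modules.pullback f).obj ((ZClos.H0 Z).obj F) ≅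
      (ZClos.H0 (f.base ⁻¹' Z)).obj ((Scheme.Modules.pullback f).obj F)) := by
  have hZ' : StableUnderSpecialization (f.base ⁻¹' Z) := fun x y hxy hx => hZ (hxy.map f.continuous) hx
  have h1 := isZClosed_pullback f hZ ((ZClos.H0 Z).obj F) (K283.LeftExact.isQCoh_H0 Z hF) (isZClosed_H0 F)
  let u := (Scheme.Modules.pullback f).map (rhoApp Z F)
  obtain ⟨v, hv, -⟩ := existsUnique_fac h1 u
  have h2 : IsIso v := by
    refine K283.Support.isIso_fac hZ' h1 u (fun x hx => ?_) v hv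
    rw [stalkMap_eq_stalkLin]
    exact bijective_pullback_map f (rhoApp Z F) x
      ((K283.DepthTwo.isZClosedAt_iff_stalkLin F (f x)).1 (isZClosedAt_of_notMem F (f x) hx))
  exact ⟨(asIso v).symm⟩

theorem isCoh_iff [IsLocallyNoetherian X] [IsLocallyNoetherian X'] [Flat f]
    {Z : Set X} (hZ : StableUnderSpecialization Z) (F : X.Modules) (hF : Coh.IsQCoh F) :
    (Coh.IsCoh ((ZClos.H0 Z).obj F) →
      Coh.IsCoh ((ZClos.H0 (f.base ⁻¹' Z)).obj ((Scheme.Modules.pullback f).obj F))) ∧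
    (Surjective f → QuasiCompact f →
      Coh.IsCoh ((ZClos.H0 (f.base ⁻¹' Z)).obj ((Scheme.Modules.pullback f).obj F)) →
        Coh.IsCoh ((ZClos.H0 Z).obj F)) := by
  obtain ⟨e⟩ := nonempty_iso f hZ F hF
  refine ⟨fun h => ?_, fun _ _ h => ?_⟩
  · exact Groth.Agent.CohqB.LocalQC.isCoh_of_iso e (Groth.Agent.FormalA.PullbackQC.isCoh_pullback f _ h)
  · exact Groth.Agent.Fdesc.FTDescent.isCoh_of_pullback f _ (K283.LeftExact.isQCoh_H0 Z hF)
      (Groth.Agent.CohqB.LocalQC.isCoh_of_iso e.symm h)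

end K283.Pull
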