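import Groth.Prelude.Def_ZClos
import Mathlib.AlgebraicGeometry.Noetherian

/-!
# Closures of relatively closed subsets of quasi-compact opens

On a locally Noetherian scheme, a relatively closed subset of a quasi-compact open contained in a
specialization-stable subset `Z` has its closure contained in `Z`.
-/

set_option autoImplicit false
universe u

open CategoryTheory TopologicalSpace Opposite CategoryTheory.Limits AlgebraicGeometry

namespace K283.Top

open ZClos

theorem closure_subset_aux {X : Type*} [TopologicalSpace X] {Z : Set X} (hZ : StableUnderSpecialization Z)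
    (W : Set X) [NoetherianSpace W] [QuasiSober W] {A : Set X}
    (hA : IsClosed ((Subtype.val : W → X) ⁻¹' A)) (hAW : A ⊆ W) (hAZ : A ⊆ Z) : closure A ⊆ Z := by
  obtain ⟨S, hS, hS', hS''⟩ := NoetherianSpace.exists_finite_set_isClosed_irreducible hA
  obtain ⟨hS2, hS3⟩ := hS''
  have key : ∀ C ∈ S, ∃ ξ : X, ξ ∈ A ∧ Subtype.val '' C ⊆ closure {ξ} := by
    intro C hC
    obtain ⟨ξ, hξ⟩ := QuasiSober.sober (hS2 C hC) (hS' C hC)
    refine ⟨ξ.1, ?_, ?_⟩
    · have h1 : ξ ∈ C := hξ.mem
      have h2 : ξ ∈ (Subtype.val : W → X) ⁻¹' A := by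
        rw [hS3]; exact ⟨C, hC, h1⟩
      exact h2
    · rintro _ ⟨y, hy, rfl⟩
      have h1 : ξ ⤳ y := hξ.specializes hy
      exact (h1.map continuous_subtype_val).mem_closure
  choose ξ hξ hξ' using key
  have h1 : A ⊆ ⋃ C : S, closure {ξ C.1 C.2} := by
    intro a ha
    have h2 : (⟨a, hAW ha⟩ : W) ∈ ⋃₀ S := by
      rw [← hS3]; exact ha
    obtain ⟨C, hC, haC⟩ := h2
    exact Set.mem_iUnion.2 ⟨⟨C, hC⟩, hξ' C hC ⟨_, haC, rfl⟩⟩
  have : Finite S := hS
  have h2 : closure A ⊆ ⋃ C : S, closure {ξ C.1 C.2} :=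
    closure_minimal h1 (isClosed_iUnion_of_finite fun _ => isClosed_closure)
  refine h2.trans (Set.iUnion_subset fun C y hy => ?_)
  exact hZ (specializes_iff_mem_closure.2 hy) (hAZ (hξ C.1 C.2))

variable {X : Scheme.{u}} [IsLocallyNoetherian X] {Z : Set X}

theorem noetherianSpace_of_isCompact {W : X.Opens} (hW : IsCompact (W : Set X)) :
    NoetherianSpace (W : Set X) := by
  have : CompactSpace W := isCompact_iff_compactSpace.mp hW
  have : IsNoetherian W.toScheme := { }
  exact (inferInstance : NoetherianSpace W.toScheme)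

omit [IsLocallyNoetherian X] in
theorem quasiSober (W : X.Opens) : QuasiSober (W : Set X) :=
  (inferInstance : QuasiSober W.toScheme)

theorem closure_subset (hZ : StableUnderSpecialization Z) {W V : X.Opens} (hW : IsCompact (W : Set X))
    (hAZ : (W : Set X) \ V ⊆ Z) : closure ((W : Set X) \ V) ⊆ Z := by
  have := noetherianSpace_of_isCompact hW
  have := quasiSober W
  refine closure_subset_aux hZ (W : Set X) ?_ Set.sdiff_subset hAZ
  have : (Subtype.val : ↥(W : Set X) → X) ⁻¹' ((W : Set X) \ V) =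
      (Subtype.val : ↥(W : Set X) → X) ⁻¹' ((V : Set X)ᶜ) := by
    ext ⟨x, hx⟩
    simpa using fun _ => hx
  rw [this]
  exact V.2.isClosed_compl.preimage continuous_subtype_val

/-- A relatively closed subset `W ∖ V ⊆ Z` of a quasi-compact open `W` is the trace of a closed subset of `Z`. -/
theorem exists_Cl (hZ : StableUnderSpecialization Z) {W V : X.Opens} (hW : IsCompact (W : Set X))
    (hVW : V ≤ W) (hAZ : (W : Set X) \ V ⊆ Z) : ∃ T : Cl Z, W ⊓ T.U = V := by
  refine ⟨⟨⟨closure ((W : Set X) \ V), isClosed_closure⟩, closure_subset hZ hW hAZ⟩, ?_⟩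
  ext x
  change x ∈ (W : Set X) ∧ ¬ x ∈ closure ((W : Set X) \ V) ↔ x ∈ (V : Set X)
  constructor
  · rintro ⟨h1, h2⟩
    by_contra h3
    exact h2 (subset_closure ⟨h1, h3⟩)
  · intro h
    refine ⟨hVW h, fun h2 => ?_⟩
    obtain ⟨y, hy1, hy2⟩ := mem_closure_iff.1 h2 V V.2 h
    exact hy2.2 hy1

omit [IsLocallyNoetherian X] in
/-- Quasi-compact open neighbourhoods. -/
theorem exists_isCompact {V : X.Opens} {x : X} (hx : x ∈ V) :
    ∃ W : X.Opens, IsCompact (W : Set X) ∧ W ≤ V ∧ x ∈ W := by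
  obtain ⟨_, ⟨W, hW, rfl⟩, hxW, hWV⟩ := X.isBasis_affineOpens.exists_subset_of_mem_open hx V.2
  exact ⟨W, IsAffineOpen.isCompact hW, hWV, hxW⟩

end K283.Top
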