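import Groth.Agent.ZClos.K283.Basic
import Groth.Agent.ZClos.K283.Top

/-!
# Z-pure and Z-closed modules: elementwise criteria, the universal property
-/

set_option autoImplicit false
universe u

open CategoryTheory TopologicalSpace Opposite CategoryTheory.Limits AlgebraicGeometry

namespace K283.Closed

open K283.Sec K283.Basic K283.Top ZClos

variable {X : Scheme.{u}} {Z : Set X} {F F' : X.Modules}

/-! ### Isomorphisms on a basis -/

theorem injective_of_basis (P : X.Opens → Prop)
    (hP : ∀ (V : X.Opens) (x : X), x ∈ V → ∃ W : X.Opens, P W ∧ W ≤ V ∧ x ∈ W)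
    (φ : F ⟶ F') (h : ∀ V, P V → Function.Injective (m φ V)) (V : X.Opens) :
    Function.Injective (m φ V) := by
  rw [injective_iff_map_eq_zero]
  intro s hs
  refine sep _ _ fun x hx => ?_
  obtain ⟨W, hW, hWV, hxW⟩ := hP V x hx
  refine ⟨W, hWV, hxW, h W hW ?_⟩
  rw [m_r, hs, m_r]
  simp

theorem bijective_of_basis (P : X.Opens → Prop)
    (hP : ∀ (V : X.Opens) (x : X), x ∈ V → ∃ W : X.Opens, P W ∧ W ≤ V ∧ x ∈ W)
    (φ : F ⟶ F') (h : ∀ V, P V → Function.Bijective (m φ V)) (V : X.Opens) :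
    Function.Bijective (m φ V) := by
  have hinj := injective_of_basis P hP φ fun V hV => (h V hV).1
  refine ⟨hinj V, fun t => ?_⟩
  let ι := {W : X.Opens // P W ∧ W ≤ V}
  have hU : V = iSup (fun i : ι => i.1) := by
    apply le_antisymm
    · intro x hx
      obtain ⟨W, hW, hWV, hxW⟩ := hP V x hx
      exact Opens.mem_iSup.2 ⟨⟨W, hW, hWV⟩, hxW⟩
    · exact iSup_le fun i => i.2.2
  choose s hs using fun i : ι => (h i.1 i.2.1).2 (r F' i.2.2 t)
  obtain ⟨w, hw⟩ := glue (F := F) (fun i : ι => i.1) hU s fun i j => hinj _ <| by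
    rw [m_r, m_r, hs, hs, r_r, r_r]
  refine ⟨w, sep _ _ fun x hx => ?_⟩
  obtain ⟨W, hW, hWV, hxW⟩ := hP V x hx
  refine ⟨W, hWV, hxW, ?_⟩
  rw [← m_r, hw ⟨W, hW, hWV⟩]
  exact hs ⟨W, hW, hWV⟩

theorem isIso_of_basis (P : X.Opens → Prop)
    (hP : ∀ (V : X.Opens) (x : X), x ∈ V → ∃ W : X.Opens, P W ∧ W ≤ V ∧ x ∈ W)
    (φ : F ⟶ F') (h : ∀ V, P V → Function.Bijective (m φ V)) : IsIso φ :=
  isIso_iff.2 (bijective_of_basis P hP φ h)

theorem mono_of_basis (P : X.Opens → Prop)
    (hP : ∀ (V : X.Opens) (x : X), x ∈ V → ∃ W : X.Opens, P W ∧ W ≤ V ∧ x ∈ W)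
    (φ : F ⟶ F') (h : ∀ V, P V → Function.Injective (m φ V)) : Mono φ :=
  mono_iff.2 (injective_of_basis P hP φ h)

/-! ### The unit for one open -/

theorem unit_injective_iff (U V : X.Opens) : Function.Injective (m ((resPushUnit U).app F) V) ↔
    Function.Injective (r F (inf_le_left : V ⊓ U ≤ V)) := by
  rw [unit_eq']
  exact (toPush_injective F U V).of_comp_iff _

theorem unit_bijective_iff (U V : X.Opens) : Function.Bijective (m ((resPushUnit U).app F) V) ↔
    Function.Bijective (r F (inf_le_left : V ⊓ U ≤ V)) := by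
  rw [unit_eq']
  exact (toPush_bijective F U V).of_comp_iff' _

theorem mono_unit_iff (U : X.Opens) : Mono ((resPushUnit U).app F) ↔
    ∀ V : X.Opens, Function.Injective (r F (inf_le_left : V ⊓ U ≤ V)) := by
  rw [mono_iff]
  exact forall_congr' fun V => unit_injective_iff U V

theorem isIso_unit_iff (U : X.Opens) : IsIso ((resPushUnit U).app F) ↔
    ∀ V : X.Opens, Function.Bijective (r F (inf_le_left : V ⊓ U ≤ V)) := by
  rw [isIso_iff]
  exact forall_congr' fun V => unit_bijective_iff U V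

theorem mono_unit_of_basis (P : X.Opens → Prop)
    (hP : ∀ (V : X.Opens) (x : X), x ∈ V → ∃ W : X.Opens, P W ∧ W ≤ V ∧ x ∈ W) (U : X.Opens)
    (h : ∀ V, P V → Function.Injective (r F (inf_le_left : V ⊓ U ≤ V))) :
    Mono ((resPushUnit U).app F) :=
  mono_of_basis P hP _ fun V hV => (unit_injective_iff U V).2 (h V hV)

theorem isIso_unit_of_basis (P : X.Opens → Prop)
    (hP : ∀ (V : X.Opens) (x : X), x ∈ V → ∃ W : X.Opens, P W ∧ W ≤ V ∧ x ∈ W) (U : X.Opens)
    (h : ∀ V, P V → Function.Bijective (r F (inf_le_left : V ⊓ U ≤ V))) :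
    IsIso ((resPushUnit U).app F) :=
  isIso_of_basis P hP _ fun V hV => (unit_bijective_iff U V).2 (h V hV)

/-- `D(η)` is an isomorphism. -/
theorem isIso_resPush_map_unit (U : X.Opens) (F : X.Modules) :
    IsIso ((resPush U).map ((resPushUnit U).app F)) := by
  rw [isIso_iff]
  intro V
  change Function.Bijective (m ((resPushUnit U).app F) (U.ι ''ᵁ U.ι ⁻¹ᵁ V))
  rw [unit_bijective_iff]
  refine r_injective_of_eq _ ?_
  rw [ι_image_preimage]
  exact (inf_eq_left.2 inf_le_left).symm

/-- Maps out of `j_* j^* F` into a module on which the unit is a monomorphism are determined on `F`. -/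
theorem resPush_hom_ext {U : X.Opens} (h : Mono ((resPushUnit U).app F')) {a b : (resPush U).obj F ⟶ F'}
    (hab : (resPushUnit U).app F ≫ a = (resPushUnit U).app F ≫ b) : a = b := by
  have h1 : (resPush U).map a = (resPush U).map b := by
    have := isIso_resPush_map_unit U F
    rw [← cancel_epi ((resPush U).map ((resPushUnit U).app F)), ← Functor.map_comp, ← Functor.map_comp, hab]
  have h2 := (resPushUnit U).naturality a
  have h3 := (resPushUnit U).naturality b
  rw [h1, ← h3] at h2
  exact (cancel_mono ((resPushUnit U).app F')).1 h2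

/-! ### Z-pure and Z-closed -/

theorem isZPure_iff_forall_mono_unit :
    IsZPure Z F ↔ ∀ T : Cl Z, Mono ((resPushUnit T.U).app F) := by
  constructor
  · intro h T
    have h1 : Mono ((resPushUnit T.U).app F ≫ inj F T) := by
      rw [unit_inj]; exact h
    exact mono_of_mono _ (inj F T)
  · intro h
    refine mono_of_basis (fun V => IsCompact (V : Set X)) (fun V x hx => exists_isCompact hx) _ ?_
    intro V hV
    rw [injective_iff_map_eq_zero]
    intro s hs
    rw [← toH_r_self F ⊥] at hs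
    obtain ⟨T, hT, hT'⟩ := exists_r_eq_zero F hV _ _ hs
    rw [r_r] at hT'
    have := (mono_unit_iff T.U).1 (h T) V
    exact this (hT'.trans (map_zero _).symm)

theorem isZPure_iff_injective : IsZPure Z F ↔
    ∀ (T : Cl Z) (V : X.Opens), Function.Injective (r F (inf_le_left : V ⊓ T.U ≤ V)) := by
  rw [isZPure_iff_forall_mono_unit]
  exact forall_congr' fun T => mono_unit_iff T.U

theorem isZPure_of_basis (P : X.Opens → Prop)
    (hP : ∀ (V : X.Opens) (x : X), x ∈ V → ∃ W : X.Opens, P W ∧ W ≤ V ∧ x ∈ W)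
    (h : ∀ (T : Cl Z) (V : X.Opens), P V → Function.Injective (r F (inf_le_left : V ⊓ T.U ≤ V))) :
    IsZPure Z F :=
  isZPure_iff_forall_mono_unit.2 fun T => mono_unit_of_basis P hP _ (h T)

theorem isZClosed_iff_forall_isIso_unit :
    IsZClosed Z F ↔ ∀ T : Cl Z, IsIso ((resPushUnit T.U).app F) := by
  constructor
  · intro h T
    have h' : IsIso (rhoApp Z F) := h
    have hm : Mono ((resPushUnit T.U).app F) :=
      isZPure_iff_forall_mono_unit.1 (show Mono (rhoApp Z F) from inferInstance) T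
    refine ⟨inj F T ≫ inv (rhoApp Z F), ?_, ?_⟩
    · have h1 := unit_inj F T
      change (resPushUnit T.U).app F ≫ inj F T ≫ inv (rhoApp Z F) = 𝟙 F
      rw [← Category.assoc, h1, IsIso.hom_inv_id]
      rfl
    · have h1 := unit_inj F T
      have h2 : Mono ((resPushUnit T.U).app ((resPush T.U).obj F)) := by
        have := isIso_unit_resPush (le_refl T.U) F
        infer_instance
      refine resPush_hom_ext h2 ?_
      change (resPushUnit T.U).app F ≫ (inj F T ≫ inv (rhoApp Z F)) ≫ (resPushUnit T.U).app F = _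
      rw [← Category.assoc, ← Category.assoc, h1, IsIso.hom_inv_id]
      simp
  · intro h
    have h0 : ∀ (T T' : Cl Z) (f : T ⟶ T'), IsIso (((diagram Z).obj F).map f) := by
      intro T T' f
      have h1 := toDiagram_map Z F f
      have h2 : IsIso (toDiagram Z F T) := h T
      have h3 : IsIso (toDiagram Z F T') := h T'
      have h4 : IsIso (toDiagram Z F T ≫ ((diagram Z).obj F).map f) := by rw [h1]; exact h3
      exact IsIso.of_isIso_comp_left (toDiagram Z F T) _
    have h1 : IsInitial (⊥ : Cl Z) := isInitialBot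
    have h2 : IsIso (colimit.ι ((diagram Z).obj F) ⊥) := isIso_ι_of_isInitial h1 _
    have h3 : IsIso (toDiagram Z F ⊥) := h ⊥
    rw [IsZClosed, rhoApp_eq Z F ⊥]
    exact IsIso.comp_isIso' h3 h2

theorem isZClosed_iff_bijective : IsZClosed Z F ↔
    ∀ (T : Cl Z) (V : X.Opens), Function.Bijective (r F (inf_le_left : V ⊓ T.U ≤ V)) := by
  rw [isZClosed_iff_forall_isIso_unit]
  exact forall_congr' fun T => isIso_unit_iff T.U

theorem isZClosed_of_basis (P : X.Opens → Prop)
    (hP : ∀ (V : X.Opens) (x : X), x ∈ V → ∃ W : X.Opens, P W ∧ W ≤ V ∧ x ∈ W)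
    (h : ∀ (T : Cl Z) (V : X.Opens), P V → Function.Bijective (r F (inf_le_left : V ⊓ T.U ≤ V))) :
    IsZClosed Z F :=
  isZClosed_iff_forall_isIso_unit.2 fun T => isIso_unit_of_basis P hP _ (h T)

theorem IsZClosed.isZPure (h : IsZClosed Z F) : IsZPure Z F := by
  have : IsIso (rhoApp Z F) := h
  exact (inferInstance : Mono (rhoApp Z F))

end K283.Closed
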