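import Groth.Agent.ZClos.K283.Closed

/-!
# Z-purity and Z-closedness are local
-/

set_option autoImplicit false
universe u

open CategoryTheory TopologicalSpace Opposite CategoryTheory.Limits AlgebraicGeometry

namespace K283.Cover

open K283.Sec K283.Basic K283.Top K283.Closed ZClos

variable {X : Scheme.{u}} {Z : Set X} {F : X.Modules}

section

variable (V : X.Opens)

theorem rr_apply (F : X.Modules) {W W' : V.toScheme.Opens} (h : W' ≤ W) (s : G (F.restrict V.ι) W) :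
    r (F.restrict V.ι) h s = r F (V.ι.image_mono h) (s : G F (V.ι ''ᵁ W)) := rfl

theorem isCompact_image {W : V.toScheme.Opens} (hW : IsCompact (W : Set V.toScheme)) :
    IsCompact ((V.ι ''ᵁ W : X.Opens) : Set X) :=
  hW.image V.ι.continuous

/-- For `T` closed in `V` inside `Z` and `W ≤ V` quasi-compact, a closed `T'` of `X` inside `Z` with the same
trace on `W`. -/
theorem exists_Cl_trace [IsLocallyNoetherian X] (hZ : StableUnderSpecialization Z)
    (T : Cl (V.ι.base ⁻¹' Z)) {W : V.toScheme.Opens} (hW : IsCompact (W : Set V.toScheme)) :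
    ∃ T' : Cl Z, (V.ι ''ᵁ W) ⊓ T'.U = V.ι ''ᵁ (W ⊓ T.U) := by
  refine exists_Cl hZ (isCompact_image V hW) (V.ι.image_mono inf_le_left) ?_
  rintro _ ⟨⟨x, hx, rfl⟩, hx'⟩
  have h1 : ¬ (x ∈ T.U) := fun h => hx' ⟨x, ⟨hx, h⟩, rfl⟩
  have h2 : x ∈ (T.1 : Set V.toScheme) := by
    by_contra h3
    exact h1 h3
  exact T.2 h2

theorem isZClosed_restrict [IsLocallyNoetherian X] (hZ : StableUnderSpecialization Z) (hF : IsZClosed Z F) :
    IsZClosed (V.ι.base ⁻¹' Z) (F.restrict V.ι) := by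
  refine isZClosed_of_basis (fun W => IsCompact (W : Set V.toScheme)) (fun W x hx => exists_isCompact hx) ?_
  intro T W hW
  obtain ⟨T', hT'⟩ := exists_Cl_trace V hZ T hW
  have h1 := isZClosed_iff_bijective.1 hF T' (V.ι ''ᵁ W)
  have h2 := r_injective_of_eq (F := F) (le_of_eq hT'.symm) hT'
  have h3 := h2.comp h1
  change Function.Bijective (r F (V.ι.image_mono (inf_le_left : W ⊓ T.U ≤ W)))
  convert h3 using 1
  funext s
  exact (r_r (F := F) _ _ s).symm

theorem isZPure_restrict [IsLocallyNoetherian X] (hZ : StableUnderSpecialization Z) (hF : IsZPure Z F) :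
    IsZPure (V.ι.base ⁻¹' Z) (F.restrict V.ι) := by
  refine isZPure_of_basis (fun W => IsCompact (W : Set V.toScheme)) (fun W x hx => exists_isCompact hx) ?_
  intro T W hW
  obtain ⟨T', hT'⟩ := exists_Cl_trace V hZ T hW
  have h1 := isZPure_iff_injective.1 hF T' (V.ι ''ᵁ W)
  have h2 := r_injective_of_eq (F := F) (le_of_eq hT'.symm) hT'
  have h3 := h2.1.comp h1
  change Function.Injective (r F (V.ι.image_mono (inf_le_left : W ⊓ T.U ≤ W)))
  convert h3 using 1
  funext s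
  exact (r_r (F := F) _ _ s).symm

/-- The trace of `T` on `V`. -/
def traceCl (T : Cl Z) : Cl (V.ι.base ⁻¹' Z) :=
  ⟨⟨V.ι.base ⁻¹' (T.1 : Set X), T.1.2.preimage V.ι.continuous⟩, fun _ hx => T.2 hx⟩

theorem image_traceCl (T : Cl Z) (W : V.toScheme.Opens) :
    V.ι ''ᵁ (W ⊓ (traceCl V T).U) = (V.ι ''ᵁ W) ⊓ T.U := by
  ext x
  constructor
  · rintro ⟨y, ⟨hy1, hy2⟩, rfl⟩
    exact ⟨⟨y, hy1, rfl⟩, hy2⟩
  · rintro ⟨⟨y, hy1, rfl⟩, hy2⟩
    exact ⟨y, ⟨hy1, hy2⟩, rfl⟩

theorem bijective_of_restrict (hF : IsZClosed (V.ι.base ⁻¹' Z) (F.restrict V.ι)) (T : Cl Z) {W : X.Opens}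
    (hW : W ≤ V) : Function.Bijective (r F (inf_le_left : W ⊓ T.U ≤ W)) := by
  obtain ⟨W', rfl⟩ : ∃ W' : V.toScheme.Opens, V.ι ''ᵁ W' = W :=
    ⟨V.ι ⁻¹ᵁ W, by rw [ι_image_preimage, inf_eq_right.2 hW]⟩
  have h1 : Function.Bijective (r F (V.ι.image_mono (inf_le_left : W' ⊓ (traceCl V T).U ≤ W'))) :=
    isZClosed_iff_bijective.1 hF (traceCl V T) W'
  have h2 := r_injective_of_eq (F := F) (le_of_eq (image_traceCl V T W').symm) (image_traceCl V T W')
  have h3 := h2.comp h1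
  convert h3 using 1
  funext s
  exact (r_r (F := F) _ _ s).symm

theorem injective_of_restrict (hF : IsZPure (V.ι.base ⁻¹' Z) (F.restrict V.ι)) (T : Cl Z) {W : X.Opens}
    (hW : W ≤ V) : Function.Injective (r F (inf_le_left : W ⊓ T.U ≤ W)) := by
  obtain ⟨W', rfl⟩ : ∃ W' : V.toScheme.Opens, V.ι ''ᵁ W' = W :=
    ⟨V.ι ⁻¹ᵁ W, by rw [ι_image_preimage, inf_eq_right.2 hW]⟩
  have h1 : Function.Injective (r F (V.ι.image_mono (inf_le_left : W' ⊓ (traceCl V T).U ≤ W'))) :=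
    isZPure_iff_injective.1 hF (traceCl V T) W'
  have h2 := r_injective_of_eq (F := F) (le_of_eq (image_traceCl V T W').symm) (image_traceCl V T W')
  have h3 := h2.1.comp h1
  convert h3 using 1
  funext s
  exact (r_r (F := F) _ _ s).symm

end

theorem isZClosed_iff_cover [IsLocallyNoetherian X] (hZ : StableUnderSpecialization Z) (F : X.Modules)
    {ι : Type*} (V : ι → X.Opens) (hV : iSup V = ⊤) :
    IsZClosed Z F ↔ ∀ i, IsZClosed ((V i).ι.base ⁻¹' Z) (F.restrict (V i).ι) := by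
  refine ⟨fun h i => isZClosed_restrict (V i) hZ h, fun h => ?_⟩
  refine isZClosed_of_basis (fun W => ∃ i, W ≤ V i) ?_ ?_
  · intro W x hx
    have : x ∈ iSup V := by rw [hV]; trivial
    obtain ⟨i, hi⟩ := Opens.mem_iSup.1 this
    exact ⟨W ⊓ V i, ⟨i, inf_le_right⟩, inf_le_left, hx, hi⟩
  · rintro T W ⟨i, hi⟩
    exact bijective_of_restrict (V i) (h i) T hi

theorem isZPure_iff_cover [IsLocallyNoetherian X] (hZ : StableUnderSpecialization Z) (F : X.Modules)
    {ι : Type*} (V : ι → X.Opens) (hV : iSup V = ⊤) :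
    IsZPure Z F ↔ ∀ i, IsZPure ((V i).ι.base ⁻¹' Z) (F.restrict (V i).ι) := by
  refine ⟨fun h i => isZPure_restrict (V i) hZ h, fun h => ?_⟩
  refine isZPure_of_basis (fun W => ∃ i, W ≤ V i) ?_ ?_
  · intro W x hx
    have : x ∈ iSup V := by rw [hV]; trivial
    obtain ⟨i, hi⟩ := Opens.mem_iSup.1 this
    exact ⟨W ⊓ V i, ⟨i, inf_le_right⟩, inf_le_left, hx, hi⟩
  · rintro T W ⟨i, hi⟩
    exact injective_of_restrict (V i) (h i) T hi

end K283.Cover
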