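import Groth.Agent.ZClos.K283.Closed

/-!
# The Z-closure is Z-closed; universal property; stalks outside Z
-/

set_option autoImplicit false
universe u

open CategoryTheory TopologicalSpace Opposite CategoryTheory.Limits AlgebraicGeometry

namespace K283.Univ

open K283.Sec K283.Basic K283.Top K283.Closed ZClos

variable {X : Scheme.{u}} {Z : Set X} {F F' : X.Modules}

/-! ### Universal property -/

theorem existsUnique_fac (hF' : IsZClosed Z F') (u : F ⟶ F') :
    ∃! v : (H0 Z).obj F ⟶ F', rhoApp Z F ≫ v = u := by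
  have h1 : IsIso (rhoApp Z F') := hF'
  have h2 : ∀ T : Cl Z, Mono ((resPushUnit T.U).app F') :=
    isZPure_iff_forall_mono_unit.1 (IsZClosed.isZPure hF')
  refine ⟨(H0 Z).map u ≫ inv (rhoApp Z F'), ?_, ?_⟩
  · have h3 := (rho Z).naturality u
    change rhoApp Z F ≫ (H0 Z).map u ≫ inv (rhoApp Z F') = u
    rw [← Category.assoc, IsIso.comp_inv_eq]
    exact h3.symm
  · intro v hv
    refine hom_ext_inj fun T => resPush_hom_ext (h2 T) ?_
    have h4 := unit_inj F T
    have h3 := (rho Z).naturality u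
    change (resPushUnit T.U).app F ≫ inj F T ≫ v = (resPushUnit T.U).app F ≫ inj F T ≫ (H0 Z).map u ≫ _
    rw [← Category.assoc, ← Category.assoc ((resPushUnit T.U).app F) (inj F T), h4, hv, ← Category.assoc,
      IsIso.eq_comp_inv]
    exact h3

/-! ### The Z-closure is Z-closed -/

theorem sup_U (T T' : Cl Z) : (T ⊔ T').U = T.U ⊓ T'.U := by
  ext x
  change ¬ (x ∈ ((T.1 ⊔ T'.1 : Closeds X) : Set X)) ↔ (¬ x ∈ (T.1 : Set X)) ∧ ¬ x ∈ (T'.1 : Set X)
  rw [Closeds.coe_sup, Set.mem_union, not_or]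

theorem isZClosed_H0 [IsLocallyNoetherian X] (F : X.Modules) : IsZClosed Z ((H0 Z).obj F) := by
  refine isZClosed_of_basis (fun V => IsCompact (V : Set X)) (fun V x hx => exists_isCompact hx) ?_
  intro T V hV
  have hV' : IsCompact ((V ⊓ T.U : X.Opens) : Set X) := by
    have := noetherianSpace_of_isCompact hV
    have h2 : IsCompact ((Subtype.val : ↥(V : Set X) → X) '' ((Subtype.val : ↥(V : Set X) → X) ⁻¹' T.U)) :=
      (NoetherianSpace.isCompact _).image continuous_subtype_val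
    rw [Subtype.image_preimage_coe] at h2
    exact h2
  constructor
  · rw [injective_iff_map_eq_zero]
    intro t ht
    obtain ⟨T₁, s, rfl⟩ := exists_toH_eq F hV t
    rw [r_toH] at ht
    obtain ⟨T₂, h, h0⟩ := exists_r_eq_zero F hV' T₁ _ ht
    rw [r_r] at h0
    have h1 : T₁ ≤ T ⊔ T₂ := h.trans le_sup_right
    have h2 : V ⊓ (T ⊔ T₂).U ≤ V ⊓ T.U ⊓ T₂.U := by
      rw [sup_U, inf_assoc]
    rw [← toH_r F h1]
    have h3 := congrArg (r F h2) h0
    rw [r_r, map_zero] at h3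
    rw [h3, map_zero]
  · intro t
    obtain ⟨T₁, s, rfl⟩ := exists_toH_eq F hV' t
    have h1 : T₁ ≤ T ⊔ T₁ := le_sup_right
    have h2 : V ⊓ (T ⊔ T₁).U ≤ V ⊓ T.U ⊓ T₁.U := by
      rw [sup_U, inf_assoc]
    refine ⟨toH F (T ⊔ T₁) V (r F h2 s), ?_⟩
    rw [r_toH, ← toH_r F h1]
    rw [r_r]

/-! ### Stalks outside Z -/

theorem stalk_map_germ {F F' : X.Modules} (φ : F ⟶ F') {V : X.Opens} {x : X} (hx : x ∈ V) (s : G F V) :
    (TopCat.Presheaf.stalkFunctor (C := Ab.{u}) x).map φ.mapPresheaf (F.presheaf.germ V x hx s) =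
      F'.presheaf.germ V x hx (m φ V s) := by
  rw [TopCat.Presheaf.stalkFunctor_map_germ_apply]
  rfl

theorem rhoStalk_germ (F : X.Modules) {V : X.Opens} {x : X} (hx : x ∈ V) (s : G F V) :
    rhoStalk Z F x (F.presheaf.germ V x hx s) =
      ((H0 Z).obj F).presheaf.germ V x hx (m (rhoApp Z F) V s) :=
  stalk_map_germ (rhoApp Z F) hx s

theorem germ_r (F : X.Modules) {V W : X.Opens} (h : W ≤ V) {x : X} (hx : x ∈ W) (s : G F V) :
    F.presheaf.germ W x hx (r F h s) = F.presheaf.germ V x (h hx) s :=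
  F.presheaf.germ_res_apply (homOfLE h) x hx s

/-- A germ is represented by a section over a quasi-compact open. -/
theorem exists_germ (F : X.Modules) {V : X.Opens} {x : X} (hx : x ∈ V) (a : F.presheaf.stalk x) :
    ∃ (W : X.Opens) (hxW : x ∈ W) (s : G F W), IsCompact (W : Set X) ∧ W ≤ V ∧
      F.presheaf.germ W x hxW s = a := by
  obtain ⟨V', hxV', s, rfl⟩ := F.presheaf.exists_germ_eq a
  obtain ⟨W, hW, hWV, hxW⟩ := exists_isCompact (V := V ⊓ V') ⟨hx, hxV'⟩
  exact ⟨W, hxW, r F (hWV.trans inf_le_right) s, hW, hWV.trans inf_le_left, germ_r F _ hxW s⟩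

theorem exists_of_germ_eq (F : X.Modules) {V : X.Opens} {x : X} (hx : x ∈ V) (s t : G F V)
    (h : F.presheaf.germ V x hx s = F.presheaf.germ V x hx t) :
    ∃ (W : X.Opens) (hWV : W ≤ V), IsCompact (W : Set X) ∧ x ∈ W ∧ r F hWV s = r F hWV t := by
  obtain ⟨W, hxW, i₁, i₂, e⟩ := F.presheaf.germ_eq x hx hx s t h
  obtain ⟨W', hW', hWW', hxW'⟩ := exists_isCompact hxW
  refine ⟨W', hWW'.trans i₁.le, hW', hxW', ?_⟩
  have h1 : r F i₁.le s = r F i₁.le t := e
  have h2 := congrArg (r F hWW') h1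
  rwa [r_r, r_r] at h2

theorem isZClosedAt_of_notMem [IsLocallyNoetherian X] (F : X.Modules) (x : X) (hx : x ∉ Z) :
    IsZClosedAt Z F x := by
  constructor
  · intro a b hab
    change F.presheaf.stalk x at a
    change F.presheaf.stalk x at b
    suffices h : ∀ c : F.presheaf.stalk x, rhoStalk Z F x c = 0 → c = 0 by
      have := h (a - b) (by rw [map_sub, hab, sub_self])
      exact sub_eq_zero.1 this
    intro c hc
    obtain ⟨W, hxW, s, hW, -, rfl⟩ := exists_germ F (V := ⊤) (x := x) trivial c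
    rw [rhoStalk_germ, ← map_zero (((H0 Z).obj F).presheaf.germ W x hxW).hom] at hc
    obtain ⟨W', hWW', hW', hxW', e⟩ := exists_of_germ_eq _ hxW _ _ hc
    rw [← m_r, map_zero, ← toH_r_self F ⊥] at e
    obtain ⟨T, hT, hT'⟩ := exists_r_eq_zero F hW' _ _ e
    rw [r_r, r_r] at hT'
    have hxT : x ∈ W' ⊓ T.U := ⟨hxW', fun h => hx (T.2 h)⟩
    rw [← germ_r F (inf_le_left.trans hWW') hxT s, hT', map_zero]
  · intro c
    obtain ⟨W, hxW, t, hW, -, rfl⟩ := exists_germ ((H0 Z).obj F) (V := ⊤) (x := x) trivial c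
    obtain ⟨T, s, rfl⟩ := exists_toH_eq F hW t
    have hxT : x ∈ W ⊓ T.U := ⟨hxW, fun h => hx (T.2 h)⟩
    refine ⟨F.presheaf.germ _ x hxT s, ?_⟩
    rw [rhoStalk_germ, ← germ_r _ inf_le_left hxT, r_toH_of_le F T le_rfl, r_self]

end K283.Univ
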