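import Groth.Agent.ZClos.K283.DepthTwo
import Groth.Agent.ZClos.K283.Cover
import Groth.Agent.Divis.WeakAss
import Groth.Agent.SDiv.K471.StalkPrimes
import Groth.Agent.S2089

/-!
# The Z-closed locus
-/

set_option autoImplicit false
universe u

open CategoryTheory TopologicalSpace Opposite CategoryTheory.Limits AlgebraicGeometry

namespace K283.Locus

open K283.Sec K283.Basic K283.Top K283.Closed K283.Univ K283.Support K283.Depth K283.DepthTwo
open K283.Cover ZClos
open K283.QC hiding germ_r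
open Groth.Agent.CycB.StalkExact Groth.Agent.Fdesc.QCohStalk
open Groth.Agent.Ega4dB.DepthStalk

variable {X : Scheme.{u}} {Z : Set X} {F F' : X.Modules}

/-- Stalks are bijective where sections are. -/
theorem bijective_stalkLin_of_near (φ : F ⟶ F') {V : X.Opens}
    (h : ∀ W : X.Opens, W ≤ V → IsCompact (W : Set X) → Function.Bijective (m φ W)) {x : X} (hx : x ∈ V) :
    Function.Bijective (stalkLin φ x) := by
  constructor
  · rw [injective_iff_map_eq_zero]
    intro a ha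
    obtain ⟨W, hxW, s, -, hWV, rfl⟩ := exists_germ F hx a
    rw [stalkLin_germ', ← map_zero (F'.presheaf.germ W x hxW).hom] at ha
    obtain ⟨W', hW', hWc', hxW', e⟩ := exists_of_germ_eq _ hxW _ _ ha
    rw [← m_r, map_zero] at e
    have := (h W' (hW'.trans hWV) hWc').1 (e.trans (map_zero _).symm)
    rw [← Univ.germ_r F hW' hxW', this, map_zero]
  · intro b
    obtain ⟨W, hxW, t, hWc, hWV, rfl⟩ := exists_germ F' hx b
    obtain ⟨s, rfl⟩ := (h W hWV hWc).2 t
    exact ⟨F.presheaf.germ W x hxW s, by rw [stalkLin_germ']⟩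

/-- Sections are bijective where stalks are. -/
theorem bijective_of_stalkLin (φ : F ⟶ F') {V : X.Opens}
    (h : ∀ x ∈ V, Function.Bijective (stalkLin φ x)) {W : X.Opens} (hW : W ≤ V) :
    Function.Bijective (m φ W) := by
  have hinj : ∀ W ≤ V, Function.Injective (m φ W) := by
    intro W hW
    rw [injective_iff_map_eq_zero]
    intro s hs
    refine sep _ _ fun x hx => ?_
    have h1 : F.presheaf.germ W x hx s = F.presheaf.germ W x hx 0 := by
      refine (h x (hW hx)).1 ?_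
      rw [stalkLin_germ', hs, map_zero, map_zero, map_zero]
    obtain ⟨W', h', -, hxW', e⟩ := exists_of_germ_eq F hx s 0 h1
    exact ⟨W', h', hxW', e⟩
  refine ⟨hinj W hW, fun t => ?_⟩
  let ι := {W' : X.Opens // ∃ (h : W' ≤ W) (s : G F W'), m φ W' s = r F' h t}
  have hU : W = iSup (fun i : ι => i.1) := by
    apply le_antisymm
    · intro x hx
      obtain ⟨a, ha⟩ := (h x (hW hx)).2 (F'.presheaf.germ W x hx t)
      obtain ⟨W', hxW', s, -, hW'W, rfl⟩ := exists_germ F hx a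
      rw [stalkLin_germ', ← Univ.germ_r F' hW'W hxW'] at ha
      obtain ⟨W'', h'', -, hx'', e⟩ := exists_of_germ_eq F' hxW' _ _ ha
      refine Opens.mem_iSup.2 ⟨⟨W'', h''.trans hW'W, r F h'' s, ?_⟩, hx''⟩
      rw [m_r, e, r_r]
    · exact iSup_le fun i => i.2.1
  choose s hs using fun i : ι => i.2.2
  obtain ⟨w, hw⟩ := glue (F := F) (fun i : ι => i.1) hU s fun i j =>
    hinj _ (inf_le_left.trans (i.2.1.trans hW)) <| by
      rw [m_r, m_r, hs, hs, r_r, r_r]
  refine ⟨w, sep _ _ fun x hx => ?_⟩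
  rw [hU] at hx
  obtain ⟨i, hi⟩ := Opens.mem_iSup.1 hx
  refine ⟨i.1, i.2.1, hi, ?_⟩
  rw [← m_r, hw i, hs]

/-- `F` is Z-closed on an open at all of whose points it is Z-closed. -/
theorem isZClosed_restrict_of_at [IsLocallyNoetherian X] (hZ : StableUnderSpecialization Z) (U : X.Opens)
    (h : ∀ x ∈ U, IsZClosedAt Z F x) : IsZClosed (U.ι.base ⁻¹' Z) (F.restrict U.ι) := by
  have h0 : ∀ W : X.Opens, W ≤ U → Function.Bijective (m (rhoApp Z F) W) := fun W hW =>
    bijective_of_stalkLin _ (fun x hx => (isZClosedAt_iff_stalkLin F x).1 (h x hx)) hW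
  rw [isZClosed_iff_bijective]
  intro T W
  have h1 := isZClosed_iff_bijective.1 (isZClosed_restrict U hZ (isZClosed_H0 (Z := Z) F)) T W
  change Function.Bijective (r F (U.ι.image_mono (inf_le_left : W ⊓ T.U ≤ W)))
  change Function.Bijective (r ((H0 Z).obj F) (U.ι.image_mono (inf_le_left : W ⊓ T.U ≤ W))) at h1
  have h2 : U.ι ''ᵁ W ≤ U := U.ι_image_le W
  have h3 : ⇑(m (rhoApp Z F) (U.ι ''ᵁ (W ⊓ T.U))) ∘ ⇑(r F (U.ι.image_mono (inf_le_left : W ⊓ T.U ≤ W))) =
      ⇑(r ((H0 Z).obj F) (U.ι.image_mono (inf_le_left : W ⊓ T.U ≤ W))) ∘ ⇑(m (rhoApp Z F) (U.ι ''ᵁ W)) := by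
    funext s
    exact m_r _ _ _
  have h4 : Function.Bijective (⇑(m (rhoApp Z F) (U.ι ''ᵁ (W ⊓ T.U))) ∘
      ⇑(r F (U.ι.image_mono (inf_le_left : W ⊓ T.U ≤ W)))) := by
    rw [h3]
    exact h1.comp (h0 _ h2)
  exact (Function.Bijective.of_comp_iff' (h0 _ (U.ι_image_le _)) _).1 h4

/-- On an open where `F` is Z-closed it is Z-closed at all points. -/
theorem isZClosedAt_of_restrict [IsLocallyNoetherian X] (U : X.Opens)
    (h : IsZClosed (U.ι.base ⁻¹' Z) (F.restrict U.ι)) (x : X) (hx : x ∈ U) : IsZClosedAt Z F x := by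
  rw [isZClosedAt_iff_stalkLin]
  refine bijective_stalkLin_of_near _ (V := U) (fun W hW hWc => ⟨?_, fun t => ?_⟩) hx
  · rw [injective_iff_map_eq_zero]
    intro s hs
    rw [← toH_r_self F ⊥] at hs
    obtain ⟨T, hT, hT'⟩ := exists_r_eq_zero F hWc _ _ hs
    rw [r_r] at hT'
    exact (bijective_of_restrict U h T hW).1 (hT'.trans (map_zero _).symm)
  · obtain ⟨T, s, rfl⟩ := exists_toH_eq F hWc t
    obtain ⟨s', rfl⟩ := (bijective_of_restrict U h T hW).2 s
    exact ⟨s', by rw [toH_r_self]⟩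

/-- The Z-closed locus is open if the Z-closure is coherent. -/
theorem isOpen_locus [IsLocallyNoetherian X] (Z : Set X) (hF : Coh.IsCoh F)
    (hH : Coh.IsCoh ((ZClos.H0 Z).obj F)) : IsOpen {x | IsZClosedAt Z F x} := by
  rw [isOpen_iff_forall_mem_open]
  intro x hx
  have hx' : Function.Bijective (stalkLin (rhoApp Z F) x) := (isZClosedAt_iff_stalkLin F x).1 hx
  obtain ⟨V, hxV, hV⟩ := exists_bijective_near hF hH (rhoApp Z F) x hx'
  exact ⟨V, fun y hy => (isZClosedAt_iff_stalkLin F y).2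
    (bijective_stalkLin_of_near _ (fun W hW _ => hV W hW) hy), V.2, hxV⟩

theorem locus [IsLocallyNoetherian X] (hZ : StableUnderSpecialization Z) (hF : Coh.IsCoh F)
    (hH : Coh.IsCoh ((ZClos.H0 Z).obj F)) :
    ∃ U : X.Opens, (U : Set X) = {x | ∀ x' : X, x' ⤳ x → x' ∈ Z →
        (2 : ℕ∞) ≤ LocCoh.depth (X.presheaf.stalk x') (F.presheaf.stalk x')} ∧
      (U : Set X)ᶜ ⊆ Z ∧
      ZClos.IsZClosed (U.ι.base ⁻¹' Z) ((Scheme.Modules.restrictFunctor U.ι).obj F) ∧
      ∀ V : X.Opens, ZClos.IsZClosed (V.ι.base ⁻¹' Z) ((Scheme.Modules.restrictFunctor V.ι).obj F) → V ≤ U := by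
  refine ⟨⟨{x | IsZClosedAt Z F x}, isOpen_locus Z hF hH⟩, ?_, ?_, ?_, ?_⟩
  · ext x
    exact isZClosedAt_iff_depth hZ hF x
  · intro x hx
    by_contra hxZ
    exact hx (isZClosedAt_of_notMem F x hxZ)
  · exact isZClosed_restrict_of_at hZ _ fun x hx => hx
  · intro V hV x hx
    exact isZClosedAt_of_restrict V hV x hx

/-! ### Associated points of the Z-closure -/

theorem mem_Ass_H0_iff [IsLocallyNoetherian X] (x : X) (hx : x ∉ Z) :
    x ∈ AssSch.Ass ((H0 Z).obj F) ↔ x ∈ AssSch.Ass F := by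
  have h := (isZClosedAt_iff_stalkLin F x).1 (isZClosedAt_of_notMem F x hx)
  exact (LinearEquiv.isAssociatedPrime_iff (LinearEquiv.ofBijective _ h)).symm

theorem comap_mem_associatedPrimes [IsLocallyNoetherian X] (hF : Coh.IsQCoh F) {x y : X} (h : x ⤳ y)
    (hx : x ∈ AssSch.Ass F) :
    (IsLocalRing.maximalIdeal (X.presheaf.stalk x)).comap (X.presheaf.stalkSpecializes h).hom ∈
      associatedPrimes (X.presheaf.stalk y) (F.presheaf.stalk y) := by
  obtain ⟨U, hU, hy⟩ := exists_affine y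
  have hxU : x ∈ U := h.mem_open U.2 hy
  let Q : PrimeSpectrum (X.presheaf.stalk y) :=
    PrimeSpectrum.comap (X.presheaf.stalkSpecializes h).hom (IsLocalRing.closedPoint (X.presheaf.stalk x))
  have hQ : K471.StalkPrimes.below hy Q = hU.primeIdealOf ⟨x, hxU⟩ := by
    rw [← K471.StalkPrimes.below_closedPoint hU hxU]
    change PrimeSpectrum.comap _ (PrimeSpectrum.comap _ _) = PrimeSpectrum.comap _ _
    rw [← PrimeSpectrum.comap_comp_apply, ← CommRingCat.hom_comp, TopCat.Presheaf.germ_stalkSpecializes]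
  exact (K471.StalkPrimes.isAssPoint_iff hU hy hF hxU Q hQ).1 hx

theorem two_le_dim [IsLocallyNoetherian X] (hZ : StableUnderSpecialization Z) 
    (hH : Coh.IsCoh ((ZClos.H0 Z).obj F))
    (x : X) (hx : x ∈ AssSch.Ass F) (hxZ : x ∉ Z) (y : X) (hy : y ∈ Z) (h : x ⤳ y) :
    (2 : WithBot ℕ∞) ≤ ringKrullDim (X.presheaf.stalk y ⧸
      (IsLocalRing.maximalIdeal (X.presheaf.stalk x)).comap (X.presheaf.stalkSpecializes h).hom) := by
  have hN : IsNoetherianRing (X.presheaf.stalk y) := inferInstance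
  have hfin : Module.Finite (X.presheaf.stalk y) (((ZClos.H0 Z).obj F).presheaf.stalk y) :=
    Groth.Agent.Divis.StalkMod.finite_stalk hH y
  have h1 := two_le_depth_of_isZClosed hZ hH (isZClosed_H0 F) y hy
  have h2 := comap_mem_associatedPrimes hH.1 h ((mem_Ass_H0_iff x hxZ).2 hx)
  refine le_trans ?_ (Groth.Agent.S2089.result _ h2)
  exact WithBot.coe_le_coe.2 h1

end K283.Locus
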