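import Groth.Agent.ZClos.K283.Locus
import Groth.Agent.CycB.CohProp

/-!
# Coherence of the direct images off closed subsets of `Z`
-/

set_option autoImplicit false
universe u

open CategoryTheory TopologicalSpace Opposite CategoryTheory.Limits AlgebraicGeometry

namespace K283.Fin

open K283.Sec K283.Basic K283.Top K283.Closed K283.Univ K283.Support K283.Depth K283.DepthTwo
open K283.Cover ZClos K283.Locus
open K283.QC hiding germ_r
open Groth.Agent.CycB.StalkExact Groth.Agent.Fdesc.QCohStalk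

variable {X : Scheme.{u}} {Z : Set X} {F : X.Modules}

/-- If `F` is Z-pure the colimit injections are monomorphisms. -/
theorem mono_inj (h : IsZPure Z F) (T : Cl Z) : Mono (inj F T) := by
  refine mono_of_basis (fun V => IsCompact (V : Set X)) (fun V x hx => exists_isCompact hx) _ ?_
  intro V hV
  rw [injective_iff_map_eq_zero]
  intro s' hs
  obtain ⟨s, rfl⟩ := (toPush_bijective F T.U V).2 s'
  obtain ⟨T', hT, hT'⟩ := exists_r_eq_zero F hV T s hs
  have h1 := isZPure_iff_injective.1 h T' (V ⊓ T.U)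
  have h2 : r F (inf_le_left : (V ⊓ T.U) ⊓ T'.U ≤ V ⊓ T.U) s = 0 := by
    have h3 : (V ⊓ T.U) ⊓ T'.U ≤ V ⊓ T'.U := inf_le_inf_right _ inf_le_left
    have h4 := congrArg (r F h3) hT'
    rw [r_r, map_zero] at h4
    exact h4
  rw [h1 (h2.trans (map_zero _).symm), map_zero]

/-- If no associated point of `F` lies in `Z` then `F` is Z-pure. -/
theorem isZPure_of_ass [IsLocallyNoetherian X] (hZ : StableUnderSpecialization Z) (hF : Coh.IsQCoh F)
    (hass : ∀ x ∈ AssSch.Ass F, x ∉ Z) : IsZPure Z F := by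
  rw [IsZPure, mono_iff]
  intro V
  rw [injective_iff_map_eq_zero]
  intro s hs
  refine sep _ _ fun x hx => ?_
  have h1 := (isZPureAt_iff hZ hF x).2 fun x' _ hx' h => hass x' h hx'
  have h2 : F.presheaf.germ V x hx s = F.presheaf.germ V x hx 0 := by
    refine h1 ?_
    rw [rhoStalk_germ, rhoStalk_germ, hs, map_zero, map_zero, map_zero]
  obtain ⟨W', h', -, hxW', e⟩ := exists_of_germ_eq F hx s 0 h2
  exact ⟨W', h', hxW', e⟩

theorem isCoh_resPush [IsLocallyNoetherian X] (hZ : StableUnderSpecialization Z) (hF : Coh.IsCoh F)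
    (hass : ∀ x ∈ AssSch.Ass F, x ∉ Z) (hH : Coh.IsCoh ((ZClos.H0 Z).obj F)) (T : ZClos.Cl Z) :
    Coh.IsCoh ((ZClos.resPush T.U).obj F) := by
  have := mono_inj (isZPure_of_ass hZ hF.1 hass) T
  exact Groth.Agent.CycB.CohProp.isCoh_of_mono (inj F T) (K283.LeftExact.isQCoh_resPush T.U hF.1) hH

end K283.Fin
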