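import Groth.Agent.ZClos.K283.Env
import Mathlib.AlgebraicGeometry.Modules.Tilde

/-!
# The affine case
-/

set_option autoImplicit false
universe u v w

open CategoryTheory TopologicalSpace Opposite CategoryTheory.Limits AlgebraicGeometry

namespace K283.Spec

open K283.Sec K283.Aff K283.Env ZClos
open Groth.Agent.Ega4C.ZTransform

variable {R : CommRingCat.{u}}

theorem bijective_algebraMap : Function.Bijective (algebraMap R Γ(Spec R, ⊤)) := by
  have h : algebraMap R Γ(Spec R, ⊤) = (Scheme.ΓSpecIso R).inv.hom := by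
    ext r
    rfl
  rw [h]
  exact ConcreteCategory.bijective_of_isIso (Scheme.ΓSpecIso R).inv

theorem preZ_eq (Z : Set (Spec R)) :
    preZ (A := R) Γ(Spec R, ⊤) Z = ZV (isAffineOpen_top (Spec R)) Z := by
  ext p
  have h : algebraMap R Γ(Spec R, ⊤) = (Scheme.ΓSpecIso R).inv.hom := by
    ext r
    rfl
  change PrimeSpectrum.comap (algebraMap R Γ(Spec R, ⊤)) p ∈ Z ↔ (isAffineOpen_top (Spec R)).fromSpec p ∈ Z
  have h2 : (isAffineOpen_top (Spec R)).fromSpec = Spec.map (Scheme.ΓSpecIso R).inv := by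
    rw [IsAffineOpen.fromSpec_top, Scheme.isoSpec_Spec_inv]
  rw [h, h2]
  rfl

noncomputable def topEquiv (M : ModuleCat.{u} R) : M ≃ₗ[R] Γ(tilde M, ⊤) :=
  (tilde.isoTop M).toLinearEquiv

theorem PZ_spec (Z : Set (Spec R)) (hZ : StableUnderSpecialization Z) (M : ModuleCat.{u} R) :
    PZ (ZV (isAffineOpen_top (Spec R)) Z) (G (tilde M) ⊤) ↔ PZ (A := R) Z M := by
  have : Module.Finite R Γ(Spec R, ⊤) :=
    Module.Finite.of_surjective (Algebra.linearMap R Γ(Spec R, ⊤)) bijective_algebraMap.2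
  rw [PZ_congr (A := R) (topEquiv M), PZ_iff_of_finite (A := R) (B := Γ(Spec R, ⊤)) hZ, preZ_eq]


theorem isCoh_H0_spec_iff [IsNoetherianRing R] (Z : Set (Spec R)) (hZ : StableUnderSpecialization Z)
    (M : ModuleCat.{u} R) : Coh.IsCoh ((H0 Z).obj (tilde M)) ↔ PZ (A := R) Z M := by
  have hqc : Coh.IsQCoh (tilde M) := (inferInstance : (tilde M).IsQuasicoherent)
  rw [← PZ_spec Z hZ M]
  constructor
  · intro h
    rw [PZ_sections_iff _ hZ hqc]
    exact Groth.Agent.Divis.StalkMod.finite_sections h (isAffineOpen_top _)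
  · intro h
    exact isCoh_H0_iff hZ hqc fun x => ⟨⊤, isAffineOpen_top _, trivial, h⟩

theorem map_comap_mk {A : Type*} [CommRing A] (I : Ideal A) (q : Ideal (A ⧸ I)) :
    (q.comap (algebraMap A (A ⧸ I))).map (Ideal.Quotient.mk I) = q :=
  Ideal.map_comap_of_surjective _ Ideal.Quotient.mk_surjective q

theorem main (A : Type u) [CommRing A] [IsNoetherianRing A] :
    (∀ (q : Ideal A) [q.IsPrime], EGA4.HeightOneHullFinite (A ⧸ q)) ↔
      ∀ (M : Type u) [AddCommGroup M] [Module A M] [Module.Finite A M]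
        (Z : Set (PrimeSpectrum A)), StableUnderSpecialization Z →
        (∀ x : PrimeSpectrum A, x.asIdeal ∈ associatedPrimes A M → x ∉ Z →
          ∀ y ∈ Z, x.asIdeal ≤ y.asIdeal → (2 : ℕ∞) ≤ (y.asIdeal.map (Ideal.Quotient.mk x.asIdeal)).height) →
        Coh.IsCoh ((ZClos.H0 (X := Spec (CommRingCat.of A)) Z).obj (EGA4.tildeOf A M)) := by
  have : IsNoetherianRing (CommRingCat.of A) := ‹IsNoetherianRing A›
  constructor
  · intro h M _ _ _ Z hZ hcond
    refine (isCoh_H0_spec_iff (R := CommRingCat.of A) Z hZ (ModuleCat.of A M)).2 ?_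
    change PZ (A := A) Z M
    refine PZ_of_forall_two_le_height hZ fun p hp hpZ => ⟨h p.asIdeal, fun q hq => ?_⟩
    have h1 := hcond p hp hpZ _ hq (by
      intro a ha
      change algebraMap A (A ⧸ p.asIdeal) a ∈ q.asIdeal
      rw [Ideal.Quotient.algebraMap_eq, Ideal.Quotient.eq_zero_iff_mem.2 ha]
      exact q.asIdeal.zero_mem)
    have h2 : ((PrimeSpectrum.comap (algebraMap A (A ⧸ p.asIdeal)) q).asIdeal.map
        (Ideal.Quotient.mk p.asIdeal)) = q.asIdeal := map_comap_mk p.asIdeal q.asIdeal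
    rwa [h2] at h1
  · intro h q hq
    let Z : Set (PrimeSpectrum A) := {p | q ≤ p.asIdeal ∧ (2 : ℕ∞) ≤ (p.asIdeal.map (Ideal.Quotient.mk q)).height}
    have hZ : StableUnderSpecialization Z := by
      intro x y hxy hx
      have hle : x.asIdeal ≤ y.asIdeal := (PrimeSpectrum.le_iff_specializes x y).2 hxy
      exact ⟨hx.1.trans hle, hx.2.trans (Ideal.height_mono (Ideal.map_mono hle))⟩
    have h1 := h (A ⧸ q) Z hZ (by
      intro x hx hxZ y hy hxy
      have hx' : x = ⟨q, hq⟩ := by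
        apply PrimeSpectrum.ext
        rw [associatedPrimes.eq_singleton_of_isPrimary hq.isPrimary, hq.radical] at hx
        exact hx
      subst hx'
      exact hy.2)
    have h2 := (isCoh_H0_spec_iff (R := CommRingCat.of A) Z hZ (ModuleCat.of A (A ⧸ q))).1 h1
    have h3 : PZ (A := A) Z (A ⧸ q) := h2
    rw [PZ_iff_of_finite (A := A) (B := A ⧸ q) hZ] at h3
    rw [heightOneHullFinite_iff_PZ]
    suffices hZeq : EGA4.Zge (A ⧸ q) 2 = preZ (A ⧸ q) Z by
      rw [hZeq]; exact h3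
    ext p
    change ((2 : ℕ) : ℕ∞) ≤ p.asIdeal.height ↔ q ≤ p.asIdeal.comap (algebraMap A (A ⧸ q)) ∧
      (2 : ℕ∞) ≤ ((p.asIdeal.comap (algebraMap A (A ⧸ q))).map (Ideal.Quotient.mk q)).height
    rw [map_comap_mk]
    refine ⟨fun h => ⟨?_, h⟩, fun h => h.2⟩
    intro a ha
    change algebraMap A (A ⧸ q) a ∈ p.asIdeal
    rw [Ideal.Quotient.algebraMap_eq, Ideal.Quotient.eq_zero_iff_mem.2 ha]
    exact p.asIdeal.zero_mem

end K283.Spec
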