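import Groth.Agent.ZClos.K283.Alg
import Groth.Agent.ZClos.K283.Locus

/-!
# Z-closed modules and algebraically Z-closed modules over affine opens
-/

set_option autoImplicit false
universe u

open CategoryTheory TopologicalSpace Opposite CategoryTheory.Limits AlgebraicGeometry

namespace K283.Aff

open K283.Sec K283.Basic K283.Top K283.Closed K283.Univ K283.Alg ZClos
open K283.QC hiding germ_r
open Groth.Agent.CycB.StalkExact Groth.Agent.Fdesc.QCohStalk
open Groth.Agent.Ega4dB.DepthStalk Groth.Agent.Ega4C.ZTransform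
open Groth.Agent.Ega1.QCohLoc (resO IsLocAt isLocAt_of_isQCoh isLocAt_of_qcqs inj_of_isCompact
  isLocOnAffines_of_isQCoh resO_resO basicOpen_resO)

variable {X : Scheme.{u}} {Z : Set X} {F F' : X.Modules}

/-- The trace of `Z` on an affine open, as a set of primes. -/
def ZV {V : X.Opens} (hV : IsAffineOpen V) (Z : Set X) : Set (PrimeSpectrum Γ(X, V)) :=
  {p | hV.fromSpec p ∈ Z}

section

variable {V : X.Opens} (hV : IsAffineOpen V)

theorem mem_ZV {p : PrimeSpectrum Γ(X, V)} : p ∈ ZV hV Z ↔ hV.fromSpec p ∈ Z := Iff.rfl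

theorem primeIdealOf_mem_ZV {x : X} (hx : x ∈ V) : hV.primeIdealOf ⟨x, hx⟩ ∈ ZV hV Z ↔ x ∈ Z := by
  rw [mem_ZV, hV.fromSpec_primeIdealOf]

theorem stable_ZV (hZ : StableUnderSpecialization Z) : StableUnderSpecialization (ZV hV Z) := by
  intro p q hpq hp
  exact hZ (hpq.map hV.fromSpec.continuous) hp

/-- A section is torsion iff its germs outside `Z` vanish. -/
theorem mem_tors_of_germ (hF : Coh.IsQCoh F) (n : G F V)
    (h : ∀ (x : X) (hx : x ∈ V), x ∉ Z → F.presheaf.germ V x hx n = 0) :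
    n ∈ tors (ZV hV Z) (G F V) := by
  intro p hp
  have hx := fromSpec_mem hV p
  obtain ⟨k, hk, hk'⟩ := exists_smul_eq_zero_of_germ_eq_zero F hV hF _ hx n (h _ hx hp)
  rw [mem_basicOpen_iff hV _ hx, primeIdealOf_fromSpec] at hk
  exact ⟨k, hk, hk'⟩

theorem germ_eq_zero_of_mem_tors (n : G F V) (h : n ∈ tors (ZV hV Z) (G F V)) (x : X) (hx : x ∈ V)
    (hxZ : x ∉ Z) : F.presheaf.germ V x hx n = 0 := by
  obtain ⟨s, hs, hs'⟩ := h (hV.primeIdealOf ⟨x, hx⟩) (by rwa [primeIdealOf_mem_ZV])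
  exact germ_eq_zero_of_smul hx ((mem_basicOpen_iff hV x hx s).2 hs) hs'

theorem smul_injective_of_isUnit {W : X.Opens} {a : Γ(X, W)} (ha : IsUnit a) {s t : G F W}
    (h : a • s = a • t) : s = t := by
  obtain ⟨v, rfl⟩ := ha
  have := congrArg (fun y => (↑v⁻¹ : Γ(X, W)) • y) h
  simpa [← mul_smul] using this

theorem isUnit_resO' {g : Γ(X, V)} {W : X.Opens} (hWV : W ≤ V) (h : W ≤ X.basicOpen g) : IsUnit (resO hWV g) := by
  have h1 : IsUnit (resO (X.basicOpen_le g) g) := isUnit_resO le_rfl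
  have h2 := h1.map (resO h)
  rwa [resO_resO] at h2

/-- (BR) Sections over affine opens of a Z-closed module are algebraically Z-closed. -/
theorem AC_of_isZClosed [IsLocallyNoetherian X] (hZ : StableUnderSpecialization Z)
    (h : IsZClosed Z F) : AC (ZV hV Z) (G F V) := by
  have hb := isZClosed_iff_bijective.1 h
  constructor
  · rw [eq_bot_iff]
    intro n hn
    rw [Submodule.mem_bot]
    let W : X.Opens := ⨆ i : {g : Γ(X, V) // g • n = 0}, X.basicOpen i.1
    have hWV : W ≤ V := iSup_le fun i => X.basicOpen_le i.1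
    have h1 : (V : Set X) \ W ⊆ Z := by
      rintro x ⟨hxV, hxW⟩
      by_contra hxZ
      obtain ⟨s, hs, hs'⟩ := hn (hV.primeIdealOf ⟨x, hxV⟩) (by rwa [primeIdealOf_mem_ZV])
      exact hxW (Opens.mem_iSup.2 ⟨⟨s, hs'⟩, (mem_basicOpen_iff hV x hxV s).2 hs⟩)
    obtain ⟨T, hT⟩ := exists_Cl hZ hV.isCompact hWV h1
    refine (hb T V).1 (?_ : _ = r F _ 0)
    rw [map_zero]
    refine sep _ _ fun x hx => ?_
    have hx' : x ∈ W := by rw [← hT]; exact hx
    obtain ⟨i, hi⟩ := Opens.mem_iSup.1 hx'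
    refine ⟨X.basicOpen i.1, ?_, hi, ?_⟩
    · rw [hT]; exact le_iSup (fun i : {g : Γ(X, V) // g • n = 0} => X.basicOpen i.1) i
    · rw [r_r, map_zero]
      have h4 := congrArg (r F (X.basicOpen_le i.1)) i.2
      rw [map_zero, r_smul] at h4
      exact (isUnit_resO le_rfl).smul_eq_zero.1 h4
  · intro J hJ f
    let W : X.Opens := ⨆ i : J, X.basicOpen (i : Γ(X, V))
    have hWV : W ≤ V := iSup_le fun i => X.basicOpen_le _
    have h1 : (V : Set X) \ W ⊆ Z := by
      rintro x ⟨hxV, hxW⟩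
      rw [← primeIdealOf_mem_ZV hV hxV]
      refine hJ fun g hg => ?_
      by_contra hgx
      exact hxW (Opens.mem_iSup.2 ⟨⟨g, hg⟩, (mem_basicOpen_iff hV x hxV g).2 hgx⟩)
    obtain ⟨T, hT⟩ := exists_Cl hZ hV.isCompact hWV h1
    have key : ∀ i : J, ∃ e : G F (X.basicOpen (i : Γ(X, V))),
        resO (X.basicOpen_le (i : Γ(X, V))) (i : Γ(X, V)) • e = r F (X.basicOpen_le (i : Γ(X, V))) (f i) := by
      intro i
      obtain ⟨v, hv⟩ := isUnit_resO (le_refl (X.basicOpen (i : Γ(X, V))))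
      refine ⟨(↑v⁻¹ : Γ(X, X.basicOpen (i : Γ(X, V)))) • r F (X.basicOpen_le _) (f i), ?_⟩
      rw [← hv, ← mul_smul, v.mul_inv, one_smul]
    choose e he using key
    obtain ⟨w, hw⟩ := glue (F := F) (U := W) (fun i : J => X.basicOpen (i : Γ(X, V))) rfl e fun i j => by
      have hu : IsUnit (resO (inf_le_left.trans (X.basicOpen_le _) :
          X.basicOpen (i : Γ(X, V)) ⊓ X.basicOpen (j : Γ(X, V)) ≤ V) ((i : Γ(X, V)) * (j : Γ(X, V)))) := by
        rw [map_mul]
        exact (isUnit_resO' _ inf_le_left).mul (isUnit_resO' _ inf_le_right)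
      refine smul_injective_of_isUnit hu ?_
      have h2 := congrArg (r F (inf_le_left : X.basicOpen (i : Γ(X, V)) ⊓ X.basicOpen (j : Γ(X, V)) ≤ _)) (he i)
      have h3 := congrArg (r F (inf_le_right : X.basicOpen (i : Γ(X, V)) ⊓ X.basicOpen (j : Γ(X, V)) ≤ _)) (he j)
      rw [r_smul, r_r, resO_resO] at h2 h3
      rw [map_mul, mul_comm, mul_smul, h2, mul_comm, mul_smul, h3, ← r_smul, ← r_smul, ← map_smul, ← map_smul]
      congr 2
      exact Subtype.ext (mul_comm _ _)
    obtain ⟨n, hn⟩ := (hb T V).2 (r F hT.le w)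
    refine ⟨n, fun x => (hb T V).1 ?_⟩
    change r F _ (f x) = r F _ ((x : Γ(X, V)) • n)
    rw [r_smul, hn]
    refine sep _ _ fun y hy => ?_
    have hy' : y ∈ W := by rw [← hT]; exact hy
    obtain ⟨i, hi⟩ := Opens.mem_iSup.1 hy'
    have hle : X.basicOpen (i : Γ(X, V)) ≤ V ⊓ T.U := by
      rw [hT]; exact le_iSup (fun i : J => X.basicOpen (i : Γ(X, V))) i
    refine ⟨X.basicOpen (i : Γ(X, V)), hle, hi, ?_⟩
    have h5 : r F (hle.trans hT.le) w = e i := hw i
    rw [r_r, r_smul, r_r, resO_resO, h5]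
    refine smul_injective_of_isUnit (isUnit_resO (le_refl (X.basicOpen (i : Γ(X, V))))) ?_
    rw [smul_comm, he, ← r_smul, ← r_smul, ← map_smul, ← map_smul]
    congr 2
    exact Subtype.ext (mul_comm _ _)

/-- (RB) on one affine open. -/
theorem bijective_of_AC [IsLocallyNoetherian X] (hF : Coh.IsQCoh F)
    (h : AC (ZV hV Z) (G F V)) (T : Cl Z) : Function.Bijective (r F (inf_le_left : V ⊓ T.U ≤ V)) := by
  have hinj : Function.Injective (r F (inf_le_left : V ⊓ T.U ≤ V)) := by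
    rw [injective_iff_map_eq_zero]
    intro n hn
    rw [← Submodule.mem_bot Γ(X, V), ← h.tors_eq_bot]
    refine mem_tors_of_germ hV hF n fun x hx hxZ => ?_
    have hxT : x ∈ V ⊓ T.U := ⟨hx, fun h => hxZ (T.2 h)⟩
    rw [← Univ.germ_r F inf_le_left hxT, hn, map_zero]
  refine ⟨hinj, fun t => ?_⟩
  have hcomp : IsCompact ((V ⊓ T.U : X.Opens) : Set X) := by
    have := noetherianSpace_of_isCompact hV.isCompact
    have h2 : IsCompact ((Subtype.val : ↥(V : Set X) → X) '' ((Subtype.val : ↥(V : Set X) → X) ⁻¹' T.U)) :=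
      (NoetherianSpace.isCompact _).image continuous_subtype_val
    rw [Subtype.image_preimage_coe] at h2
    exact h2
  let R : X.Opens := V ⊓ T.U
  have hRV : R ≤ V := inf_le_left
  letI : Module Γ(X, V) (G F R) := Module.compHom (G F R) (resO hRV)
  have hsm : ∀ (a : Γ(X, V)) (s : G F R), a • s = resO hRV a • s := fun _ _ => rfl
  let φ : G F V →ₗ[Γ(X, V)] G F R :=
    { toFun := r F hRV
      map_add' := map_add _
      map_smul' := fun a s => r_smul hRV a s }
  let ψ : Γ(X, V) →ₗ[Γ(X, V)] G F R := LinearMap.toSpanSingleton _ _ t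
  have hφ : Function.Injective φ := hinj
  let J : Ideal Γ(X, V) := (LinearMap.range φ).comap ψ
  let f : J →ₗ[Γ(X, V)] G F V :=
    ((LinearEquiv.ofInjective φ hφ).symm : LinearMap.range φ →ₗ[Γ(X, V)] G F V) ∘ₗ
      (ψ.restrict (p := J) (q := LinearMap.range φ) fun x hx => hx)
  have hf : ∀ x : J, r F hRV (f x) = resO hRV x • t := by
    intro x
    have h1 : φ (f x) = ψ x := by
      have h2 := LinearEquiv.apply_symm_apply (LinearEquiv.ofInjective φ hφ)
        ((ψ.restrict (p := J) (q := LinearMap.range φ) fun x hx => hx) x)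
      exact congrArg Subtype.val h2
    exact h1
  have hJ' : ∀ p ∈ PrimeSpectrum.zeroLocus (J : Set Γ(X, V)), hV.fromSpec p ∉ R := by
    intro p hp hxR
    have hx := fromSpec_mem hV p
    obtain ⟨g, n, hg, hn⟩ := exists_germ_eq_smul F hV hF _ hx (F.presheaf.germ R _ hxR t)
    have h1 : F.presheaf.germ R _ hxR (r F hRV n - resO hRV g • t) = 0 := by
      rw [map_sub, Univ.germ_r, hn, germ_smul'', Groth.Agent.Divis.PushDepth.germ_resO, sub_self]
    obtain ⟨W', hW', -, hxW', e'⟩ := exists_of_germ_eq F hxR _ 0 (h1.trans (map_zero _).symm)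
    obtain ⟨k, hk, hxk⟩ := hV.exists_basicOpen_le ⟨_, hxW'⟩ hx
    have hkR : X.basicOpen k ≤ R := hk.trans hW'
    have h2 : r F hkR (r F hRV n - resO hRV g • t) = 0 := by
      have := congrArg (r F hk) e'
      rw [r_r, map_zero, map_zero] at this
      exact this
    obtain ⟨l, hl⟩ := inj_of_isCompact (isLocOnAffines_of_isQCoh F hF) hcomp (resO hRV k)
      (r F hRV n - resO hRV g • t) (W := X.basicOpen k)
      (by rw [basicOpen_resO, inf_eq_right.2 hkR]) hkR h2
    have h3 : k ^ l * g ∈ J := by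
      refine ⟨k ^ l • n, ?_⟩
      change r F hRV (k ^ l • n) = resO hRV (k ^ l * g) • t
      rw [r_smul, map_mul, map_pow, mul_smul]
      rw [smul_sub, sub_eq_zero] at hl
      exact hl
    have h4 : k ^ l * g ∈ p.asIdeal := hp h3
    rw [mem_basicOpen_iff hV _ hx, primeIdealOf_fromSpec] at hg hxk
    rcases p.2.mem_or_mem h4 with h5 | h5
    · exact hxk (p.2.mem_of_pow_mem _ h5)
    · exact hg h5
  have hJ : PrimeSpectrum.zeroLocus (J : Set Γ(X, V)) ⊆ ZV hV Z := by
    intro p hp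
    by_contra hpZ
    exact hJ' p hp ⟨fromSpec_mem hV p, fun h => hpZ (T.2 h)⟩
  obtain ⟨e, he⟩ := h.closed J hJ f
  refine ⟨e, sep _ _ fun x hx => ?_⟩
  have hxV : x ∈ V := hx.1
  obtain ⟨g, hg, hgx⟩ : ∃ g ∈ J, x ∈ X.basicOpen g := by
    by_contra hcon
    push Not at hcon
    refine hJ' (hV.primeIdealOf ⟨x, hxV⟩) (fun g hg => ?_) (by rw [hV.fromSpec_primeIdealOf]; exact hx)
    by_contra hgx
    exact hcon g hg ((mem_basicOpen_iff hV x hxV g).2 hgx)
  refine ⟨X.basicOpen g ⊓ R, inf_le_right, ⟨hgx, hx⟩, ?_⟩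
  refine smul_injective_of_isUnit (isUnit_resO' (g := g) (inf_le_right.trans hRV) inf_le_left) ?_
  have h7 := congrArg (r F (inf_le_right : X.basicOpen g ⊓ R ≤ R)) (hf ⟨g, hg⟩)
  rw [he, r_smul, r_smul, r_smul, resO_resO] at h7
  exact h7

end

/-- (RB) A quasi-coherent module whose sections over the members of an affine basis are algebraically
Z-closed is Z-closed. -/
theorem isZClosed_of_AC [IsLocallyNoetherian X] (hF : Coh.IsQCoh F) (P : X.Opens → Prop)
    (hP : ∀ (V : X.Opens) (x : X), x ∈ V → ∃ W : X.Opens, P W ∧ W ≤ V ∧ x ∈ W)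
    (h : ∀ V : X.Opens, P V → ∃ hV : IsAffineOpen V, AC (ZV hV Z) (G F V)) : IsZClosed Z F := by
  refine isZClosed_of_basis P hP fun T V hV => ?_
  obtain ⟨hV', h'⟩ := h V hV
  exact bijective_of_AC hV' hF h' T

end K283.Aff
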