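import Groth.Agent.Ega4C.ZTransformFlat
import Groth.Agent.Ega4C.ZTransformDev
import Mathlib.LinearAlgebra.TensorProduct.Pi

/-!
# Algebraically Z-closed modules and flat base change
-/

set_option autoImplicit false
universe u v w

open TensorProduct

namespace K283.Alg

open Groth.Agent.Ega4C.ZTransform

variable {A : Type u} [CommRing A] {Z : Set (PrimeSpectrum A)}

/-- An `A`-module is algebraically `Z`-closed: `N → Hom(J, N)` is bijective for all `V(J) ⊆ Z`. -/
structure AC (Z : Set (PrimeSpectrum A)) (N : Type w) [AddCommGroup N] [Module A N] : Prop where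
  tors_eq_bot : tors Z N = ⊥
  closed : ∀ J : Ideal A, PrimeSpectrum.zeroLocus (J : Set A) ⊆ Z → ∀ f : J →ₗ[A] N,
    ∃ e : N, ∀ x : J, f x = (x : A) • e

variable {N : Type w} [AddCommGroup N] [Module A N]

theorem AC.congr {N' : Type*} [AddCommGroup N'] [Module A N'] (e : N ≃ₗ[A] N') (h : AC Z N) : AC Z N' where
  tors_eq_bot := by
    rw [eq_bot_iff]
    intro x hx
    have h1 := map_mem_tors (Z := Z) e.symm.toLinearMap hx
    rw [h.tors_eq_bot, Submodule.mem_bot] at h1
    exact (Submodule.mem_bot A).2 ((LinearEquiv.map_eq_zero_iff e.symm).1 h1)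
  closed := by
    intro J hJ f
    obtain ⟨y, hy⟩ := h.closed J hJ (e.symm.toLinearMap ∘ₗ f)
    refine ⟨e y, fun x => ?_⟩
    rw [← map_smul, ← hy]
    simp

/-- `n ↦ (a_i n)`. -/
def mulMap {r : ℕ} (a : Fin r → A) (M : Type*) [AddCommGroup M] [Module A M] : M →ₗ[A] (Fin r → M) :=
  LinearMap.pi fun i => a i • LinearMap.id

/-- `(n_i) ↦ (∑ R_ji n_i)`. -/
def relMap {r m : ℕ} (R : Fin m → Fin r → A) (M : Type*) [AddCommGroup M] [Module A M] :
    (Fin r → M) →ₗ[A] (Fin m → M) :=
  LinearMap.pi fun j => ∑ i, R j i • LinearMap.proj i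

@[simp]
theorem mulMap_apply {r : ℕ} (a : Fin r → A) (M : Type*) [AddCommGroup M] [Module A M] (x : M) (i : Fin r) :
    mulMap a M x i = a i • x := rfl

@[simp]
theorem relMap_apply {r m : ℕ} (R : Fin m → Fin r → A) (M : Type*) [AddCommGroup M] [Module A M]
    (x : Fin r → M) (j : Fin m) : relMap R M x j = ∑ i, R j i • x i := by
  simp [relMap]

theorem AC.exact (h : AC Z N) {r m : ℕ} (a : Fin r → A)
    (ha : PrimeSpectrum.zeroLocus ((Ideal.span (Set.range a) : Ideal A) : Set A) ⊆ Z)
    (R : Fin m → Fin r → A) (hR : ∀ j, ∑ i, R j i * a i = 0)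
    (hR' : ∀ c : Fin r → A, ∑ i, c i * a i = 0 → c ∈ Submodule.span A (Set.range R)) :
    Function.Exact (mulMap a N) (relMap R N) := by
  intro n
  constructor
  · intro hn
    let φ : (Fin r → A) →ₗ[A] A := Fintype.linearCombination A a
    have hφ : ∀ c, φ c = ∑ i, c i * a i := fun c => by
      simp [φ, Fintype.linearCombination_apply]
    let ψ : (Fin r → A) →ₗ[A] N := Fintype.linearCombination A n
    have hψ : ∀ c, ψ c = ∑ i, c i • n i := fun c => by
      simp [ψ, Fintype.linearCombination_apply]
    have hker : LinearMap.ker φ ≤ LinearMap.ker ψ := by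
      intro c hc
      rw [LinearMap.mem_ker, hφ] at hc
      have h1 := hR' c hc
      have h2 : Submodule.span A (Set.range R) ≤ LinearMap.ker ψ := by
        rw [Submodule.span_le]
        rintro _ ⟨j, rfl⟩
        change ψ (R j) = 0
        rw [hψ, ← relMap_apply, hn]
        rfl
      exact h2 h1
    have hrange : LinearMap.range φ = Ideal.span (Set.range a) := by
      rw [Fintype.range_linearCombination]
    let f : LinearMap.range φ →ₗ[A] N :=
      ((LinearMap.ker φ).liftQ ψ hker) ∘ₗ (φ.quotKerEquivRange.symm : _ →ₗ[A] _)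
    have hf : ∀ c, f ⟨φ c, ⟨c, rfl⟩⟩ = ψ c := by
      intro c
      have h1 : φ.quotKerEquivRange.symm ⟨φ c, ⟨c, rfl⟩⟩ = (LinearMap.ker φ).mkQ c :=
        LinearMap.quotKerEquivRange_symm_apply_image φ c _
      change ((LinearMap.ker φ).liftQ ψ hker) (φ.quotKerEquivRange.symm _) = _
      rw [h1]
      rfl
    obtain ⟨e, he⟩ := h.closed (LinearMap.range φ) (by rw [hrange]; exact ha) f
    refine ⟨e, ?_⟩
    funext i
    have h1 := hf (Pi.single i 1)
    rw [he, hψ] at h1
    have h2 : φ (Pi.single i 1) = a i := by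
      rw [hφ]
      simp [Pi.single_apply]
    have h3 : ∑ j, (Pi.single i 1 : Fin r → A) j • n j = n i := by
      simp [Pi.single_apply]
    rw [h3] at h1
    rw [mulMap_apply, ← h1]
    change a i • e = φ (Pi.single i 1) • e
    rw [h2]
  · rintro ⟨e, rfl⟩
    funext j
    rw [relMap_apply]
    simp only [mulMap_apply, Pi.zero_apply]
    simp_rw [← mul_smul]
    rw [← Finset.sum_smul, hR, zero_smul]

section baseChange

variable (B : Type v) [CommRing B] [Algebra A B]

theorem piRight_mulMap {r : ℕ} (a : Fin r → A) (y : B ⊗[A] N) :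
    TensorProduct.piRight A A B (fun _ : Fin r => N) ((mulMap a N).lTensor B y) =
      mulMap a (B ⊗[A] N) y := by
  induction y using TensorProduct.induction_on with
  | zero => simp
  | tmul b n =>
    funext i
    simp [mulMap]
  | add x y hx hy => rw [map_add, map_add, hx, hy, map_add]

theorem piRight_relMap {r m : ℕ} (R : Fin m → Fin r → A) (y : B ⊗[A] (Fin r → N)) :
    TensorProduct.piRight A A B (fun _ : Fin m => N) ((relMap R N).lTensor B y) =
      relMap R (B ⊗[A] N) (TensorProduct.piRight A A B (fun _ : Fin r => N) y) := by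
  induction y using TensorProduct.induction_on with
  | zero => simp
  | tmul b n =>
    funext j
    simp [TensorProduct.tmul_sum]
  | add x y hx hy => rw [map_add, map_add, hx, hy, map_add, map_add]

/-- Flat base change of algebraically Z-closed modules. -/
theorem AC.baseChange [IsNoetherianRing A] [Module.Flat A B] (hZ : StableUnderSpecialization Z)
    (h : AC Z N) : AC (preZ B Z) (B ⊗[A] N) where
  tors_eq_bot := tors_preZ_baseChange_eq_bot B hZ h.tors_eq_bot
  closed := by
    intro J' hJ' f
    have hJ := zeroLocus_comap_subset hZ hJ'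
    set J : Ideal A := J'.comap (algebraMap A B) with hJdef
    obtain ⟨r, a, ha⟩ := Submodule.fg_iff_exists_fin_generating_family.mp
      (IsNoetherian.noetherian J)
    have haJ : ∀ i, a i ∈ J := fun i => ha ▸ Submodule.subset_span ⟨i, rfl⟩
    let K : Submodule A (Fin r → A) := LinearMap.ker (Fintype.linearCombination A a)
    obtain ⟨m, R, hR⟩ := Submodule.fg_iff_exists_fin_generating_family.mp (IsNoetherian.noetherian K)
    have hRK : ∀ j, R j ∈ K := fun j => hR ▸ Submodule.subset_span ⟨j, rfl⟩
    have hK : ∀ c : Fin r → A, c ∈ K ↔ ∑ i, c i * a i = 0 := by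
      intro c
      rw [LinearMap.mem_ker, Fintype.linearCombination_apply]
      simp
    have hex := h.exact a (by rw [show Ideal.span (Set.range a) = J from ha]; exact hJ) R
      (fun j => (hK _).1 (hRK j)) (fun c hc => by rw [hR]; exact (hK c).2 hc)
    have hex' := Module.Flat.lTensor_exact B hex
    let z : Fin r → B ⊗[A] N := fun i => f ⟨algebraMap A B (a i), haJ i⟩
    have hz : relMap R (B ⊗[A] N) z = 0 := by
      funext j
      rw [relMap_apply]
      have h1 : ∀ i, R j i • z i = f (algebraMap A B (R j i) • ⟨algebraMap A B (a i), haJ i⟩) := by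
        intro i
        rw [map_smul, algebraMap_smul]
      simp_rw [h1]
      rw [← map_sum]
      have h2 : (∑ i, algebraMap A B (R j i) • (⟨algebraMap A B (a i), haJ i⟩ : J')) = 0 := by
        apply Subtype.ext
        rw [Submodule.coe_sum, Submodule.coe_zero]
        simp only [SetLike.val_smul, smul_eq_mul]
        simp_rw [← map_mul]
        rw [← map_sum, (hK _).1 (hRK j), map_zero]
      rw [h2, map_zero]
      rfl
    obtain ⟨e, he⟩ : ∃ e : B ⊗[A] N, ∀ i, z i = a i • e := by
      let w := (TensorProduct.piRight A A B (fun _ : Fin r => N)).symm z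
      have hw : (relMap R N).lTensor B w = 0 := by
        apply (TensorProduct.piRight A A B (fun _ : Fin m => N)).injective
        rw [piRight_relMap, map_zero]
        simp only [w, LinearEquiv.apply_symm_apply]
        exact hz
      obtain ⟨e, he⟩ := (hex' w).1 hw
      refine ⟨e, fun i => ?_⟩
      have h1 := piRight_mulMap B a e
      rw [he] at h1
      simp only [w, LinearEquiv.apply_symm_apply] at h1
      rw [h1, mulMap_apply]
    refine ⟨e, fun y => ?_⟩
    rw [← sub_eq_zero, ← Submodule.mem_bot B, ← tors_preZ_baseChange_eq_bot B hZ h.tors_eq_bot]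
    refine mem_tors_of_smul_eq_zero (J := J.map (algebraMap A B))
      (zeroLocus_subset_preZ hJ Ideal.le_comap_map) fun b hb => ?_
    rw [← Ideal.mem_torsionOf_iff]
    revert b
    change J.map (algebraMap A B) ≤ _
    rw [Ideal.map_le_iff_le_comap, ← ha]
    refine Submodule.span_le.2 ?_
    rintro _ ⟨i, rfl⟩
    change algebraMap A B (a i) ∈ Ideal.torsionOf B _ _
    rw [Ideal.mem_torsionOf_iff, smul_sub, ← map_smul]
    have h3 : algebraMap A B (a i) • y = (y : B) • (⟨algebraMap A B (a i), haJ i⟩ : J') :=
      Subtype.ext (mul_comm _ _)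
    rw [h3, map_smul]
    change (y : B) • z i - _ = 0
    rw [he, ← algebraMap_smul B (a i) e, smul_comm, sub_self]

end baseChange

end K283.Alg
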