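import Groth.Agent.ZClos.K283.Sec
import Groth.Agent.CohtopA.ColimSections

/-!
# Sections of the Z-closure over quasi-compact opens

`toH F T V : Γ(F, V ∖ T) → Γ(H⁰_{X/Z}(F), V)`; on a locally Noetherian scheme, for `V` quasi-compact,
these exhibit the sections of the Z-closure as the filtered colimit of the `Γ(F, V ∖ T)`.
-/

set_option autoImplicit false
universe u

open CategoryTheory TopologicalSpace Opposite CategoryTheory.Limits AlgebraicGeometry

namespace K283.Basic

open K283.Sec ZClos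

variable {X : Scheme.{u}} {Z : Set X} (F : X.Modules)

theorem ι_image_le (U V : X.Opens) : U.ι ''ᵁ U.ι ⁻¹ᵁ V ≤ V ⊓ U := by
  rw [ι_image_preimage, inf_comm]

theorem le_ι_image (U V : X.Opens) : V ⊓ U ≤ U.ι ''ᵁ U.ι ⁻¹ᵁ V := by
  rw [ι_image_preimage, inf_comm]

/-- Sections of `F` over `V ∩ U` as sections of `j_*(F|_U)` over `V`. -/
noncomputable def toPush (U V : X.Opens) : G F (V ⊓ U) →+ G ((resPush U).obj F) V :=
  (r F (ι_image_le U V) : G F (V ⊓ U) →+ G F (U.ι ''ᵁ U.ι ⁻¹ᵁ V))

/-- Sections of `j_*(F|_U)` over `V` as sections of `F` over `V ∩ U`. -/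
noncomputable def ofPush (U V : X.Opens) : G ((resPush U).obj F) V →+ G F (V ⊓ U) :=
  (r F (le_ι_image U V) : G F (U.ι ''ᵁ U.ι ⁻¹ᵁ V) →+ G F (V ⊓ U))

@[simp]
theorem ofPush_toPush (U V : X.Opens) (s : G F (V ⊓ U)) : ofPush F U V (toPush F U V s) = s :=
  (r_r (F := F) _ _ s).trans (r_self _ s)

@[simp]
theorem toPush_ofPush (U V : X.Opens) (s : G ((resPush U).obj F) V) :
    toPush F U V (ofPush F U V s) = s :=
  (r_r (F := F) (U := U.ι ''ᵁ U.ι ⁻¹ᵁ V) (le_ι_image U V) (ι_image_le U V) s).trans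
    (r_self (F := F) (U := U.ι ''ᵁ U.ι ⁻¹ᵁ V) _ s)

theorem toPush_injective (U V : X.Opens) : Function.Injective (toPush F U V) :=
  Function.LeftInverse.injective (ofPush_toPush F U V)

theorem toPush_bijective (U V : X.Opens) : Function.Bijective (toPush F U V) :=
  Function.bijective_iff_has_inverse.2 ⟨_, ofPush_toPush F U V, toPush_ofPush F U V⟩

theorem r_toPush (U : X.Opens) {V W : X.Opens} (h : W ≤ V) (s : G F (V ⊓ U)) :
    r _ h (toPush F U V s) = toPush F U W (r F (inf_le_inf_right _ h) s) :=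
  ((r_r (F := F) (ι_image_le U V) (U.ι.image_mono (U.ι.preimage_mono h)) s).trans
    (r_r (F := F) (inf_le_inf_right _ h) (ι_image_le U W) s).symm)

theorem m_toPush {F F' : X.Modules} (φ : F ⟶ F') (U V : X.Opens) (s : G F (V ⊓ U)) :
    m ((resPush U).map φ) V (toPush F U V s) = toPush F' U V (m φ _ s) :=
  m_r φ (ι_image_le U V) s

theorem resPushMapApp_toPush {U U' : X.Opens} (h : U' ≤ U) (V : X.Opens) (s : G F (V ⊓ U)) :
    m (resPushMapApp h F) V (toPush F U V s) = toPush F U' V (r F (inf_le_inf_left _ h) s) := by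
  change (resPushMapApp h F).app V _ = _
  rw [resPushMapApp_app]
  exact ((r_r (F := F) (ι_image_le U V) (resPush_le h V) s).trans
    (r_r (F := F) (inf_le_inf_left _ h) (ι_image_le U' V) s).symm)

theorem unit_eq (U V : X.Opens) (s : G F V) :
    m ((resPushUnit U).app F) V s = toPush F U V (r F inf_le_left s) :=
  (r_r (F := F) inf_le_left (ι_image_le U V) s).symm

theorem unit_eq' (U V : X.Opens) :
    ⇑(m ((resPushUnit U).app F) V) = toPush F U V ∘ (r F inf_le_left) :=
  funext fun s => unit_eq F U V s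

/-- The colimit injection of the Z-closure. -/
noncomputable def inj (T : Cl Z) : (resPush T.U).obj F ⟶ (H0 Z).obj F :=
  colimit.ι ((diagram Z).obj F) T

theorem resPushMapApp_inj {T T' : Cl Z} (h : T ≤ T') :
    resPushMapApp (Cl.U_anti h) F ≫ inj F T' = inj F T :=
  colimit.w ((diagram Z).obj F) (homOfLE h)

theorem unit_inj (T : Cl Z) : (resPushUnit T.U).app F ≫ inj F T = rhoApp Z F :=
  (rhoApp_eq Z F T).symm

theorem map_inj {F F' : X.Modules} (φ : F ⟶ F') (T : Cl Z) :
    inj F T ≫ (H0 Z).map φ = (resPush T.U).map φ ≫ inj F' T :=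
  ι_colimMap ((diagram Z).map φ) T

theorem hom_ext_inj {F F' : X.Modules} {a b : (H0 Z).obj F ⟶ F'} (h : ∀ T : Cl Z, inj F T ≫ a = inj F T ≫ b) :
    a = b :=
  colimit.hom_ext h

/-- The map `Γ(F, V ∖ T) → Γ(H⁰_{X/Z}(F), V)`. -/
noncomputable def toH (T : Cl Z) (V : X.Opens) : G F (V ⊓ T.U) →+ G ((H0 Z).obj F) V :=
  (m (inj F T) V).comp (toPush F T.U V)

theorem toH_apply (T : Cl Z) (V : X.Opens) (s : G F (V ⊓ T.U)) :
    toH F T V s = m (inj F T) V (toPush F T.U V s) := rfl

theorem inj_app (T : Cl Z) (V : X.Opens) (s : G ((resPush T.U).obj F) V) :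
    m (inj F T) V s = toH F T V (ofPush F T.U V s) := by
  rw [toH_apply, toPush_ofPush]

/-- (P1) compatibility with restriction. -/
theorem r_toH (T : Cl Z) {V W : X.Opens} (h : W ≤ V) (s : G F (V ⊓ T.U)) :
    r _ h (toH F T V s) = toH F T W (r F (inf_le_inf_right _ h) s) := by
  rw [toH_apply, toH_apply, ← m_r, r_toPush]

/-- (P2) compatibility with the transition maps. -/
theorem toH_r {T T' : Cl Z} (h : T ≤ T') (V : X.Opens) (s : G F (V ⊓ T.U)) :
    toH F T' V (r F (inf_le_inf_left _ (Cl.U_anti h)) s) = toH F T V s := by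
  rw [toH_apply, toH_apply, ← resPushMapApp_inj F h, m_comp, resPushMapApp_toPush]

/-- (P3) compatibility with `ρ`. -/
theorem toH_r_self (T : Cl Z) (V : X.Opens) (s : G F V) :
    toH F T V (r F inf_le_left s) = m (rhoApp Z F) V s := by
  rw [← unit_inj F T, toH_apply, m_comp, unit_eq]

/-- (P4) after restriction to `V ∖ T` the section `toH s` is `ρ s`. -/
theorem r_toH_of_le (T : Cl Z) {V W : X.Opens} (h : W ≤ V ⊓ T.U) (s : G F (V ⊓ T.U)) :
    r _ (h.trans inf_le_left) (toH F T V s) = m (rhoApp Z F) W (r F h s) := by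
  rw [r_toH, ← toH_r_self F T, r_r]

/-- Naturality in the module. -/
theorem toH_naturality {F F' : X.Modules} (φ : F ⟶ F') (T : Cl Z) (V : X.Opens) (s : G F (V ⊓ T.U)) :
    m ((H0 Z).map φ) V (toH F T V s) = toH F' T V (m φ _ s) := by
  rw [toH_apply, toH_apply, ← m_comp, map_inj, m_comp, m_toPush]

/-- The cocone of abelian sheaves underlying the Z-closure. -/
noncomputable def cc : Cocone ((diagram Z).obj F ⋙ Groth.Agent.CohqB.ToSheafExact.toAbF X) :=
  (Groth.Agent.CohqB.ToSheafExact.toAbF X).mapCocone (colimit.cocone ((diagram Z).obj F))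

noncomputable def ccIsColimit : IsColimit (cc (Z := Z) F) :=
  have : PreservesColimitsOfSize.{u, u} (Groth.Agent.CohqB.ToSheafExact.toAbF X) :=
    Groth.Agent.CohqB.ToSheafExact.preservesColimitsOfSize_toSheaf X
  isColimitOfPreserves (Groth.Agent.CohqB.ToSheafExact.toAbF X) (colimit.isColimit ((diagram Z).obj F))

/-- (F1) over a quasi-compact open, a section dying in the Z-closure dies away from a larger closed subset. -/
theorem exists_r_eq_zero {V : X.Opens} (hV : IsCompact (V : Set X)) (T : Cl Z) (s : G F (V ⊓ T.U))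
    (hs : toH F T V s = 0) :
    ∃ (T' : Cl Z) (h : T ≤ T'), r F (inf_le_inf_left _ (Cl.U_anti h)) s = 0 := by
  obtain ⟨T', f, hf⟩ := Groth.Agent.CohtopA.ColimSections.exists_zero_of_isCompact
    (D := (diagram Z).obj F ⋙ Groth.Agent.CohqB.ToSheafExact.toAbF X) (c := cc F) (ccIsColimit F)
    hV (j := T) (toPush F T.U V s) hs
  refine ⟨T', f.le, toPush_injective F T'.U V ?_⟩
  rw [← resPushMapApp_toPush F (Cl.U_anti f.le), map_zero]
  exact hf

/-- (F2) over a quasi-compact open, every section of the Z-closure comes from a section of `F` away from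
a closed subset of `Z`. -/
theorem exists_toH_eq [IsLocallyNoetherian X] {V : X.Opens} (hV : IsCompact (V : Set X))
    (t : G ((H0 Z).obj F) V) : ∃ (T : Cl Z) (s : G F (V ⊓ T.U)), toH F T V s = t := by
  obtain ⟨T, s, hs⟩ := Groth.Agent.CohtopA.ColimSections.exists_rep_of_isCompact
    (D := (diagram Z).obj F ⋙ Groth.Agent.CohqB.ToSheafExact.toAbF X) (c := cc F) (ccIsColimit F)
    hV t
  refine ⟨T, ofPush F T.U V s, ?_⟩
  rw [← inj_app]
  exact hs

end K283.Basic
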