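import Groth.Agent.ZClos.K283.Closed
import Groth.Agent.CycB.StalkExact
import Groth.Agent.Ega1.QCohLoc
import Groth.Agent.Divis.StalkMod

/-!
# Maps of quasi-coherent modules: stalks and sections
-/

set_option autoImplicit false
universe u

open CategoryTheory TopologicalSpace Opposite CategoryTheory.Limits AlgebraicGeometry

namespace K283.QC

open K283.Sec K283.Basic K283.Top K283.Closed
open Groth.Agent.CycB.StalkExact Groth.Agent.Fdesc.QCohStalk
open Groth.Agent.Ega1.QCohLoc (resO IsLocAt isLocAt_of_isQCoh isLocAt_of_qcqs)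

variable {X : Scheme.{u}} {F F' : X.Modules}

theorem r_smul {V W : X.Opens} (h : W ≤ V) (a : Γ(X, V)) (s : G F V) :
    r F h (a • s) = resO h a • r F h s :=
  Groth.Agent.Ega1.QCohLoc.res_smul F h a s

theorem m_smul (φ : F ⟶ F') {V : X.Opens} (a : Γ(X, V)) (s : G F V) : m φ V (a • s) = a • m φ V s :=
  Scheme.Modules.Hom.app_smul φ a s

theorem stalkLin_germ' (φ : F ⟶ F') {V : X.Opens} {x : X} (hx : x ∈ V) (s : G F V) :
    stalkLin φ x (F.presheaf.germ V x hx s) = F'.presheaf.germ V x hx (m φ V s) :=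
  stalkLin_germ φ x hx s

theorem germ_r (F : X.Modules) {V W : X.Opens} (h : W ≤ V) {x : X} (hx : x ∈ W) (s : G F V) :
    F.presheaf.germ W x hx (r F h s) = F.presheaf.germ V x (h hx) s :=
  F.presheaf.germ_res_apply (homOfLE h) x hx s

theorem germ_smul'' (F : X.Modules) {V : X.Opens} {x : X} (hx : x ∈ V) (a : Γ(X, V)) (s : G F V) :
    F.presheaf.germ V x hx (a • s) = X.presheaf.germ V x hx a • F.presheaf.germ V x hx s :=
  germ_smul' F x hx a s

theorem isUnit_germ {V : X.Opens} {x : X} (hx : x ∈ V) {g : Γ(X, V)} (hg : x ∈ X.basicOpen g) :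
    IsUnit (X.presheaf.germ V x hx g) := (X.mem_basicOpen g x hx).mp hg

theorem germ_eq_zero_of_smul {V : X.Opens} {x : X} (hx : x ∈ V) {g : Γ(X, V)} (hg : x ∈ X.basicOpen g)
    {s : G F V} (h : g • s = 0) : F.presheaf.germ V x hx s = 0 := by
  have h1 := congrArg (F.presheaf.germ V x hx) h
  rw [map_zero, germ_smul''] at h1
  exact (isUnit_germ hx hg).smul_eq_zero.1 h1

theorem isUnit_resO {V : X.Opens} {f g : Γ(X, V)} (h : X.basicOpen f ≤ X.basicOpen g) :
    IsUnit (resO (X.basicOpen_le f) g) := by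
  have h1 : IsUnit (X.presheaf.map (homOfLE (X.basicOpen_le g)).op g) :=
    RingedSpace.isUnit_res_basicOpen _ g
  have h2 := h1.map (X.presheaf.map (homOfLE h).op).hom
  have h3 : (X.presheaf.map (homOfLE h).op).hom (X.presheaf.map (homOfLE (X.basicOpen_le g)).op g) =
      resO (X.basicOpen_le f) g := by
    change X.presheaf.map _ (X.presheaf.map _ g) = X.presheaf.map _ g
    rw [← CommRingCat.comp_apply, ← Functor.map_comp]
    rfl
  rwa [h3] at h2

/-- A germ at a specialization which vanishes vanishes at the generization. -/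
theorem germ_eq_zero_of_specializes {x x' : X} (h : x' ⤳ x) {V : X.Opens} (hx : x ∈ V) (hx' : x' ∈ V)
    {s : G F V} (hs : F.presheaf.germ V x hx s = 0) : F.presheaf.germ V x' hx' s = 0 := by
  obtain ⟨W, hxW, i₁, i₂, e⟩ := F.presheaf.germ_eq x hx hx s 0 (by rw [hs, map_zero])
  have hx'W : x' ∈ W := h.mem_open W.2 hxW
  have h1 : r F i₁.le s = 0 := e.trans (map_zero _)
  rw [← germ_r F i₁.le hx'W, h1, map_zero]

theorem germ_eq_of_specializes {x x' : X} (h : x' ⤳ x) {V : X.Opens} (hx : x ∈ V) (hx' : x' ∈ V)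
    {s t : G F V} (hs : F.presheaf.germ V x hx s = F.presheaf.germ V x hx t) :
    F.presheaf.germ V x' hx' s = F.presheaf.germ V x' hx' t := by
  have := germ_eq_zero_of_specializes h hx hx' (s := s - t) (by rw [map_sub, hs, sub_self])
  rwa [map_sub, sub_eq_zero] at this

theorem exists_affine (x : X) : ∃ W : X.Opens, IsAffineOpen W ∧ x ∈ W :=
  Groth.Agent.Divis.StalkMod.exists_affine x

theorem injective_of_specializes (hF : Coh.IsQCoh F) (hF' : Coh.IsQCoh F') (φ : F ⟶ F') {x x' : X}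
    (h : x' ⤳ x) (hφ : Function.Injective (stalkLin φ x)) : Function.Injective (stalkLin φ x') := by
  obtain ⟨W, hW, hx⟩ := exists_affine x
  have hx' : x' ∈ W := h.mem_open W.2 hx
  rw [injective_iff_map_eq_zero]
  intro a ha
  obtain ⟨g, s, hg, hs⟩ := exists_germ_eq_smul F hW hF x' hx' a
  have h1 : F'.presheaf.germ W x' hx' (m φ W s) = 0 := by
    rw [← stalkLin_germ', hs, map_smul, ha, smul_zero]
  obtain ⟨k, hk, hk'⟩ := exists_smul_eq_zero_of_germ_eq_zero F' hW hF' x' hx' _ h1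
  have h2 : F.presheaf.germ W x hx (k • s) = 0 := by
    apply hφ
    rw [stalkLin_germ', m_smul, hk', map_zero, map_zero]
  have h3 := germ_eq_zero_of_specializes h hx hx' h2
  rw [germ_smul'', (isUnit_germ hx' hk).smul_eq_zero, hs] at h3
  exact (isUnit_germ hx' hg).smul_eq_zero.1 h3

theorem surjective_of_specializes (hF : Coh.IsQCoh F) (hF' : Coh.IsQCoh F') (φ : F ⟶ F') {x x' : X}
    (h : x' ⤳ x) (hφ : Function.Surjective (stalkLin φ x)) : Function.Surjective (stalkLin φ x') := by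
  obtain ⟨W, hW, hx⟩ := exists_affine x
  have hx' : x' ∈ W := h.mem_open W.2 hx
  intro b
  obtain ⟨g, t, hg, ht⟩ := exists_germ_eq_smul F' hW hF' x' hx' b
  obtain ⟨c, hc⟩ := hφ (F'.presheaf.germ W x hx t)
  obtain ⟨k, s, hk, hs⟩ := exists_germ_eq_smul F hW hF x hx c
  have h1 : F'.presheaf.germ W x hx (m φ W s) = F'.presheaf.germ W x hx (k • t) := by
    rw [← stalkLin_germ', hs, map_smul, hc, germ_smul'']
  have h2 := germ_eq_of_specializes h hx hx' h1
  have hk' : x' ∈ X.basicOpen k := h.mem_open (X.basicOpen k).2 hk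
  obtain ⟨v, hv⟩ := (isUnit_germ hx' hk')
  obtain ⟨w, hw⟩ := (isUnit_germ hx' hg)
  refine ⟨(↑w⁻¹ * ↑v⁻¹ : X.presheaf.stalk x') • F.presheaf.germ W x' hx' s, ?_⟩
  rw [map_smul, stalkLin_germ', h2, germ_smul'', ht, ← hv, ← hw, ← mul_smul, ← mul_smul]
  have : (↑w⁻¹ * ↑v⁻¹ * (v : X.presheaf.stalk x') * (w : X.presheaf.stalk x')) = 1 := by
    rw [Units.inv_mul_cancel_right, Units.inv_mul]
  rw [this, one_smul]

theorem bijective_of_specializes (hF : Coh.IsQCoh F) (hF' : Coh.IsQCoh F') (φ : F ⟶ F') {x x' : X}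
    (h : x' ⤳ x) (hφ : Function.Bijective (stalkLin φ x)) : Function.Bijective (stalkLin φ x') :=
  ⟨injective_of_specializes hF hF' φ h hφ.1, surjective_of_specializes hF hF' φ h hφ.2⟩

/-! ### Basis relative to an open -/

theorem injective_of_basis' (P : X.Opens → Prop) (V₀ : X.Opens)
    (hP : ∀ (V : X.Opens) (x : X), V ≤ V₀ → x ∈ V → ∃ W : X.Opens, P W ∧ W ≤ V ∧ x ∈ W)
    (φ : F ⟶ F') (h : ∀ V, P V → Function.Injective (m φ V)) {V : X.Opens} (hV : V ≤ V₀) :
    Function.Injective (m φ V) := by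
  rw [injective_iff_map_eq_zero]
  intro s hs
  refine sep _ _ fun x hx => ?_
  obtain ⟨W, hW, hWV, hxW⟩ := hP V x hV hx
  refine ⟨W, hWV, hxW, h W hW ?_⟩
  rw [m_r, hs, m_r]
  simp

theorem bijective_of_basis' (P : X.Opens → Prop) (V₀ : X.Opens)
    (hP : ∀ (V : X.Opens) (x : X), V ≤ V₀ → x ∈ V → ∃ W : X.Opens, P W ∧ W ≤ V ∧ x ∈ W)
    (φ : F ⟶ F') (h : ∀ V, P V → Function.Bijective (m φ V)) {V : X.Opens} (hV : V ≤ V₀) :
    Function.Bijective (m φ V) := by
  have hinj : ∀ V ≤ V₀, Function.Injective (m φ V) := fun V hV =>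
    injective_of_basis' P V₀ hP φ (fun V hV => (h V hV).1) hV
  refine ⟨hinj V hV, fun t => ?_⟩
  let ι := {W : X.Opens // P W ∧ W ≤ V}
  have hU : V = iSup (fun i : ι => i.1) := by
    apply le_antisymm
    · intro x hx
      obtain ⟨W, hW, hWV, hxW⟩ := hP V x hV hx
      exact Opens.mem_iSup.2 ⟨⟨W, hW, hWV⟩, hxW⟩
    · exact iSup_le fun i => i.2.2
  choose s hs using fun i : ι => (h i.1 i.2.1).2 (r F' i.2.2 t)
  obtain ⟨w, hw⟩ := glue (F := F) (fun i : ι => i.1) hU s fun i j =>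
    hinj _ (inf_le_left.trans (i.2.2.trans hV)) <| by
      rw [m_r, m_r, hs, hs, r_r, r_r]
  refine ⟨w, sep _ _ fun x hx => ?_⟩
  obtain ⟨W, hW, hWV, hxW⟩ := hP V x hV hx
  refine ⟨W, hWV, hxW, ?_⟩
  rw [← m_r, hw ⟨W, hW, hWV⟩]
  exact hs ⟨W, hW, hWV⟩

/-- Basic opens of an affine open form a basis of it. -/
theorem basicOpens_basis {W : X.Opens} (hW : IsAffineOpen W) (V₀ : X.Opens) (hV₀ : V₀ ≤ W) (V : X.Opens)
    (x : X) (hV : V ≤ V₀) (hx : x ∈ V) :
    ∃ V' : X.Opens, (∃ f : Γ(X, W), V' = X.basicOpen f ∧ V' ≤ V₀) ∧ V' ≤ V ∧ x ∈ V' := by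
  obtain ⟨f, hf, hxf⟩ := hW.exists_basicOpen_le ⟨x, hx⟩ (hV₀ (hV hx))
  exact ⟨X.basicOpen f, ⟨f, rfl, hf.trans hV⟩, hf, hxf⟩

section basicOpen

variable {W : X.Opens} (hW : IsAffineOpen W)

include hW

theorem exists_pow_smul_eq_zero' (hF : Coh.IsQCoh F) (f : Γ(X, W)) (t : G F W)
    (ht : r F (X.basicOpen_le f) t = 0) : ∃ n : ℕ, f ^ n • t = 0 :=
  (isLocAt_of_isQCoh hF hW f).inj t ht

theorem exists_r_eq_pow_smul (hF : Coh.IsQCoh F) (f : Γ(X, W)) (s : G F (X.basicOpen f)) :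
    ∃ (n : ℕ) (t : G F W), r F (X.basicOpen_le f) t = resO (X.basicOpen_le f) f ^ n • s :=
  (isLocAt_of_isQCoh hF hW f).surj s

/-- If the kernel on sections over `W` is killed by `g` then the map is injective over `D(f) ⊆ D(g)`. -/
theorem injective_basicOpen (hF : Coh.IsQCoh F) (hF' : Coh.IsQCoh F') (φ : F ⟶ F') (g f : Γ(X, W))
    (hg : ∀ s : G F W, m φ W s = 0 → g • s = 0) (hfg : X.basicOpen f ≤ X.basicOpen g) :
    Function.Injective (m φ (X.basicOpen f)) := by
  rw [injective_iff_map_eq_zero]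
  intro s hs
  obtain ⟨n, t, ht⟩ := exists_r_eq_pow_smul hW hF f s
  have h1 : r F' (X.basicOpen_le f) (m φ W t) = 0 := by
    rw [← m_r, ht, m_smul, hs, smul_zero]
  obtain ⟨k, hk⟩ := exists_pow_smul_eq_zero' hW hF' f _ h1
  rw [← m_smul] at hk
  have h2 := congrArg (r F (X.basicOpen_le f)) (hg _ hk)
  rw [map_zero, r_smul, r_smul, ht, ← mul_smul, ← mul_smul] at h2
  have hu : IsUnit (resO (X.basicOpen_le f) g * resO (X.basicOpen_le f) (f ^ k) *
      resO (X.basicOpen_le f) f ^ n) := by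
    rw [map_pow]
    exact ((isUnit_resO hfg).mul ((isUnit_resO le_rfl).pow k)).mul ((isUnit_resO le_rfl).pow n)
  exact hu.smul_eq_zero.1 h2

/-- If `g` multiplies all sections over `W` into the image, the map is surjective over `D(f) ⊆ D(g)`. -/
theorem surjective_basicOpen (hF' : Coh.IsQCoh F') (φ : F ⟶ F') (g f : Γ(X, W))
    (hg : ∀ t : G F' W, ∃ s : G F W, m φ W s = g • t) (hfg : X.basicOpen f ≤ X.basicOpen g) :
    Function.Surjective (m φ (X.basicOpen f)) := by
  intro b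
  obtain ⟨n, t, ht⟩ := exists_r_eq_pow_smul hW hF' f b
  obtain ⟨s, hs⟩ := hg t
  have hu : IsUnit (resO (X.basicOpen_le f) g * resO (X.basicOpen_le f) f ^ n) :=
    (isUnit_resO hfg).mul ((isUnit_resO le_rfl).pow n)
  obtain ⟨v, hv⟩ := hu
  refine ⟨(↑v⁻¹ : Γ(X, X.basicOpen f)) • r F (X.basicOpen_le f) s, ?_⟩
  rw [m_smul, m_r, hs, r_smul, ht, ← mul_smul (resO (X.basicOpen_le f) g), ← hv, ← mul_smul, v.inv_mul, one_smul]

end basicOpen

/-- A map from a coherent module injective on the stalk at `x` is injective near `x`. -/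
theorem exists_injective_near [IsLocallyNoetherian X] (hF : Coh.IsCoh F) (hF' : Coh.IsQCoh F') (φ : F ⟶ F')
    (x : X) (h : Function.Injective (stalkLin φ x)) :
    ∃ V : X.Opens, x ∈ V ∧ ∀ W : X.Opens, W ≤ V → Function.Injective (m φ W) := by
  classical
  obtain ⟨W, hW, hx⟩ := exists_affine x
  have hfin : Module.Finite Γ(X, W) (G F W) := Groth.Agent.Divis.StalkMod.finite_sections hF hW
  have hN : IsNoetherianRing Γ(X, W) := IsLocallyNoetherian.component_noetherian ⟨W, hW⟩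
  let K : Submodule Γ(X, W) (G F W) :=
    { carrier := {s | m φ W s = 0}
      add_mem' := fun {a b} ha hb => by
        change m φ W (a + b) = 0
        rw [map_add, show m φ W a = 0 from ha, show m φ W b = 0 from hb, add_zero]
      zero_mem' := map_zero _
      smul_mem' := fun a s hs => by
        change m φ W (a • s) = 0
        rw [m_smul, show m φ W s = 0 from hs, smul_zero] }
  obtain ⟨S, hS⟩ := (IsNoetherian.noetherian K : K.FG)
  have h1 : ∀ s ∈ S, ∃ g : Γ(X, W), x ∈ X.basicOpen g ∧ g • s = 0 := by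
    intro s hs
    have hsK : m φ W s = 0 := by
      have : s ∈ K := by rw [← hS]; exact Submodule.subset_span hs
      exact this
    refine exists_smul_eq_zero_of_germ_eq_zero F hW hF.1 x hx s (h ?_)
    rw [stalkLin_germ', hsK, map_zero, map_zero]
  choose! g hg hg' using h1
  let g₀ : Γ(X, W) := ∏ s ∈ S, g s
  have hg₀ : x ∈ X.basicOpen g₀ := by
    rw [X.mem_basicOpen _ x hx, map_prod]
    refine (IsUnit.prod_iff (s := S) (f := fun s => X.presheaf.germ W x hx (g s))).2 fun s hs => isUnit_germ hx (hg s hs)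
  have h2 : ∀ s : G F W, m φ W s = 0 → g₀ • s = 0 := by
    intro s hs
    have hsK : s ∈ Submodule.span Γ(X, W) (S : Set (G F W)) := by rw [hS]; exact hs
    refine Submodule.span_induction (p := fun s _ => g₀ • s = 0) ?_ (smul_zero _) ?_ ?_ hsK
    · intro s hs
      have : g₀ = (∏ t ∈ S.erase s, g t) * g s := (Finset.prod_erase_mul S g hs).symm
      rw [this, mul_smul, hg' s hs, smul_zero]
    · intro a b _ _ ha hb
      rw [smul_add, ha, hb, add_zero]
    · intro a b _ hb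
      rw [smul_comm, hb, smul_zero]
  refine ⟨X.basicOpen g₀, hg₀, fun V hV => ?_⟩
  refine injective_of_basis' (fun V' => ∃ f : Γ(X, W), V' = X.basicOpen f ∧ V' ≤ X.basicOpen g₀)
    (X.basicOpen g₀) (fun V x hV hx => basicOpens_basis hW _ (X.basicOpen_le g₀) V x hV hx) φ ?_ hV
  rintro _ ⟨f, rfl, hf⟩
  exact injective_basicOpen hW hF.1 hF' φ g₀ f h2 hf

/-- A map between coherent modules bijective on the stalk at `x` is bijective near `x`. -/
theorem exists_bijective_near [IsLocallyNoetherian X] (hF : Coh.IsCoh F) (hF' : Coh.IsCoh F') (φ : F ⟶ F')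
    (x : X) (h : Function.Bijective (stalkLin φ x)) :
    ∃ V : X.Opens, x ∈ V ∧ ∀ W : X.Opens, W ≤ V → Function.Bijective (m φ W) := by
  classical
  obtain ⟨V₁, hxV₁, hV₁⟩ := exists_injective_near hF hF'.1 φ x h.1
  obtain ⟨W, hW, hx⟩ := exists_affine x
  have hfin : Module.Finite Γ(X, W) (G F' W) := Groth.Agent.Divis.StalkMod.finite_sections hF' hW
  obtain ⟨S, hS⟩ := hfin.1
  have h1 : ∀ t : G F' W, ∃ g : Γ(X, W), x ∈ X.basicOpen g ∧ ∃ s : G F W, m φ W s = g • t := by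
    intro t
    obtain ⟨c, hc⟩ := h.2 (F'.presheaf.germ W x hx t)
    obtain ⟨k, s, hk, hs⟩ := exists_germ_eq_smul F hW hF.1 x hx c
    have h1 : F'.presheaf.germ W x hx (m φ W s - k • t) = 0 := by
      rw [map_sub, ← stalkLin_germ', hs, map_smul, hc, germ_smul'', sub_self]
    obtain ⟨l, hl, hl'⟩ := exists_smul_eq_zero_of_germ_eq_zero F' hW hF'.1 x hx _ h1
    refine ⟨l * k, ?_, l • s, ?_⟩
    · rw [X.mem_basicOpen _ x hx, map_mul]
      exact (isUnit_germ hx hl).mul (isUnit_germ hx hk)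
    · rw [smul_sub, sub_eq_zero] at hl'
      rw [m_smul, hl', mul_smul]
  choose g hg s hs using h1
  let g₀ : Γ(X, W) := ∏ t ∈ S, g t
  have hg₀ : x ∈ X.basicOpen g₀ := by
    rw [X.mem_basicOpen _ x hx, map_prod]
    refine (IsUnit.prod_iff (s := S) (f := fun s => X.presheaf.germ W x hx (g s))).2 fun s _ => isUnit_germ hx (hg s)
  have h2 : ∀ t : G F' W, ∃ s : G F W, m φ W s = g₀ • t := by
    intro t
    have htS : t ∈ Submodule.span Γ(X, W) (S : Set (G F' W)) := by rw [hS]; trivial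
    refine Submodule.span_induction (p := fun t _ => ∃ s : G F W, m φ W s = g₀ • t) ?_ ?_ ?_ ?_ htS
    · intro t ht
      have : g₀ = (∏ t ∈ S.erase t, g t) * g t := (Finset.prod_erase_mul S g ht).symm
      exact ⟨(∏ t ∈ S.erase t, g t) • s t, by rw [m_smul, hs t, this, mul_smul]⟩
    · exact ⟨0, by rw [map_zero, smul_zero]⟩
    · rintro a b _ _ ⟨a', ha⟩ ⟨b', hb⟩
      exact ⟨a' + b', by rw [map_add, ha, hb, smul_add]⟩
    · rintro a b _ ⟨b', hb⟩
      exact ⟨a • b', by rw [m_smul, hb, smul_comm]⟩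
  refine ⟨V₁ ⊓ X.basicOpen g₀, ⟨hxV₁, hg₀⟩, fun V hV => ?_⟩
  refine bijective_of_basis' (fun V' => ∃ f : Γ(X, W), V' = X.basicOpen f ∧ V' ≤ V₁ ⊓ X.basicOpen g₀)
    (V₁ ⊓ X.basicOpen g₀) (fun V x hV hx => basicOpens_basis hW _ (inf_le_right.trans (X.basicOpen_le g₀)) V x hV hx)
      φ ?_ hV
  rintro _ ⟨f, rfl, hf⟩
  exact ⟨hV₁ _ (hf.trans inf_le_left), surjective_basicOpen hW hF'.1 φ g₀ f h2 (hf.trans inf_le_right)⟩

end K283.QC
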