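import Groth.Prelude.Def_ZClos
import Groth.Prelude.Def_Coh
import Groth.Agent.CohtopA.Sec
import Groth.Agent.CohqB.ToSheafExact

/-!
# Elementwise toolkit for sections of modules on a scheme
-/

set_option autoImplicit false
universe u

open CategoryTheory TopologicalSpace Opposite CategoryTheory.Limits AlgebraicGeometry

namespace K283.Sec

variable {X : Scheme.{u}}

/-- Sections. -/
abbrev G (F : X.Modules) (U : X.Opens) : Type u := (F.presheaf.obj (op U) : Ab.{u})

/-- Restriction of sections. -/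
noncomputable def r (F : X.Modules) {U V : X.Opens} (h : V ≤ U) : G F U →+ G F V :=
  (F.presheaf.map (homOfLE h).op).hom

/-- Action of a morphism of modules on sections. -/
noncomputable def m {F F' : X.Modules} (φ : F ⟶ F') (U : X.Opens) : G F U →+ G F' U :=
  (φ.app U).hom

variable {F F' F'' : X.Modules} {U V W : X.Opens}

theorem r_apply (h : V ≤ U) (s : G F U) : r F h s = F.presheaf.map (homOfLE h).op s := rfl

theorem map_apply (i : V ⟶ U) (s : G F U) : F.presheaf.map i.op s = r F i.le s := rfl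

@[simp]
theorem r_self (h : U ≤ U) (s : G F U) : r F h s = s := by
  rw [r_apply, show (homOfLE h).op = 𝟙 (op U) from rfl, F.presheaf.map_id]
  rfl

@[simp]
theorem r_r (h : V ≤ U) (h' : W ≤ V) (s : G F U) : r F h' (r F h s) = r F (h'.trans h) s := by
  rw [r_apply, r_apply, r_apply, ← ConcreteCategory.comp_apply, ← F.presheaf.map_comp]
  rfl

theorem m_r (φ : F ⟶ F') (h : V ≤ U) (s : G F U) : m φ V (r F h s) = r F' h (m φ U s) :=
  ConcreteCategory.congr_hom (φ.mapPresheaf.naturality (homOfLE h).op) s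

@[simp]
theorem m_comp (φ : F ⟶ F') (ψ : F' ⟶ F'') (s : G F U) : m (φ ≫ ψ) U s = m ψ U (m φ U s) := rfl

@[simp]
theorem m_id (s : G F U) : m (𝟙 F) U s = s := rfl

theorem hom_ext' {φ ψ : F ⟶ F'} (h : ∀ U (s : G F U), m φ U s = m ψ U s) : φ = ψ := by
  ext U s
  exact h U s

theorem r_injective_of_eq (h : V ≤ U) (e : U = V) : Function.Bijective (r F h) := by
  subst e
  refine ⟨fun s t hst => by simpa using hst, fun s => ⟨s, by simp⟩⟩

/-- Sections agreeing locally are equal. -/
theorem sep (s t : G F U)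
    (h : ∀ x ∈ U, ∃ (V : X.Opens) (hV : V ≤ U), x ∈ V ∧ r F hV s = r F hV t) : s = t :=
  Groth.Agent.CohtopA.Sec.sep (F := Coh.toAb F) (U := U) s t h

/-- Gluing of a compatible family, over a given open. -/
theorem glue {ι : Type*} (V : ι → X.Opens) (hU : U = iSup V) (s : ∀ i, G F (V i))
    (hs : ∀ i j, r F (inf_le_left : V i ⊓ V j ≤ V i) (s i) =
      r F (inf_le_right : V i ⊓ V j ≤ V j) (s j)) :
    ∃ w : G F U, ∀ i, r F (hU ▸ le_iSup V i) w = s i :=
  Groth.Agent.CohtopA.Sec.glue' (F := Coh.toAb F) V hU s hs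

theorem isIso_iff {φ : F ⟶ F'} : IsIso φ ↔ ∀ U, Function.Bijective (m φ U) := by
  rw [Scheme.Modules.Hom.isIso_iff_isIso_app]
  refine forall_congr' fun U => ?_
  exact ConcreteCategory.isIso_iff_bijective (φ.app U)

theorem mono_iff {φ : F ⟶ F'} : Mono φ ↔ ∀ U, Function.Injective (m φ U) := by
  constructor
  · intro h U
    have h1 : Mono ((Groth.Agent.CohqB.ToSheafExact.toAbF X).map φ) := inferInstance
    exact Groth.Agent.CohtopA.Sec.m_injective
      (F := Coh.toAb F) (G := Coh.toAb F') ((Groth.Agent.CohqB.ToSheafExact.toAbF X).map φ) U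
  · intro h
    refine ⟨fun {K} a b hab => hom_ext' fun U s => h U ?_⟩
    rw [← m_comp, ← m_comp, hab]

end K283.Sec
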